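import Cfsg.Agent.H671.H5Facts
import Cfsg.Agent.H33.IM
import Cfsg.Agent.H670.Palfy.Defs

/-!
# S4773: among four vertices of the degree graph two are adjacent: interface (helper672)

The facts used by the reduction (plan: outputs/live/tools/plans/S4773.md).

* `GIM`      : Itô-Michler for all finite groups (from `FactIM`, `H33.main`);
* `FactES`   : every simple group has an element fixed by no coprime automorphism of prime order;
* `FactAll`  : every simple group has an irreducible character fixed by no coprime automorphism of prime order;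
* `FactInd4` : among four prime divisors of the order of a simple group two are adjacent;
* `FactL2A`  : a coprime outer prime is adjacent to one of three pairwise nonadjacent inner primes;
* `FactL2B`  : for three pairwise nonadjacent primes there is no abelian Hall subgroup;
* `FactOut`  : the index of the fixed points of a coprime automorphism of prime order `t` has a prime divisor not `≡ 1 mod t`;
* `FactColour`: a group acting on a set with order of the permutation group divisible by an odd prime `p` has a 3-colouring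
  whose stabilizer has index divisible by `p`;
* `FactFour` : besides a given one there are irreducible characters in three further orbits of `Aut S`.
-/

set_option autoImplicit false

namespace Cfsg.Agent.H672.Four

open Cfsg.Agent.H671.H5 (Adj)

universe u v

/-- Itô-Michler for all finite groups. -/
def GIM : Prop := ∀ (G : Type u) [Group G] [Finite G] (p : ℕ) [Fact p.Prime], ¬ H33.IM p G → ∀ P : Sylow p G,
  (P : Subgroup G).Normal ∧ ∀ a ∈ (P : Subgroup G), ∀ b ∈ (P : Subgroup G), a * b = b * a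

/-- `s` is fixed by no automorphism of `S` of prime order not dividing `|S|`. -/
def ES {S : Type u} [Group S] (s : S) : Prop :=
  ∀ a : MulAut S, (orderOf a).Prime → ¬ orderOf a ∣ Nat.card S → a s ≠ s

def FactES : Prop := ∀ (S : Type u) [Group S] [Finite S] [IsSimpleGroup S], ¬ IsMulCommutative S → ∃ s : S, ES s

/-- `φ` is fixed by no automorphism of `S` of prime order not dividing `|S|`. -/
def Moved {S : Type u} [Group S] (φ : Cfsg.IrrCharacter S) : Prop :=
  ∀ a : MulAut S, (orderOf a).Prime → ¬ orderOf a ∣ Nat.card S → (fun s => (φ : S → ℂ) (a s)) ≠ (φ : S → ℂ)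

def FactAll : Prop := ∀ (S : Type u) [Group S] [Finite S] [IsSimpleGroup S], ¬ IsMulCommutative S →
  ∃ φ : Cfsg.IrrCharacter S, Moved φ

def FactInd4 : Prop := ∀ (S : Type u) [Group S] [Finite S] [IsSimpleGroup S], ¬ IsMulCommutative S →
  ∀ s : Finset ℕ, s.card = 4 → (∀ p ∈ s, p.Prime ∧ p ∣ Nat.card S) → ∃ p ∈ s, ∃ q ∈ s, Adj p q S

/-- `t` is an outer coprime prime of the almost simple group `Γ`, `s` a set of three prime divisors of `|S|`, pairwise
nonadjacent in `S`: then `t` is adjacent to one of them in `Γ`. -/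
def FactL2A : Prop := ∀ (Γ : Type u) [Group Γ] [Finite Γ] (S : Subgroup Γ) [S.Normal], IsSimpleGroup S →
  ¬ IsMulCommutative S → Subgroup.centralizer (S : Set Γ) = ⊥ → ∀ t : ℕ, t.Prime → t ∣ Nat.card Γ →
  ¬ t ∣ Nat.card S → ∀ s : Finset ℕ, s.card = 3 → (∀ p ∈ s, p.Prime ∧ p ∣ Nat.card S) →
  (∀ p ∈ s, ∀ q ∈ s, ¬ Adj p q S) → ∃ q ∈ s, Adj t q Γ

/-- Three pairwise nonadjacent prime divisors of `|S|`: no abelian subgroup has index prime to them. -/
def FactL2B : Prop := ∀ (S : Type u) [Group S] [Finite S] [IsSimpleGroup S], ¬ IsMulCommutative S →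
  ∀ s : Finset ℕ, s.card = 3 → (∀ p ∈ s, p.Prime ∧ p ∣ Nat.card S) → (∀ p ∈ s, ∀ q ∈ s, ¬ Adj p q S) →
  ∀ A : Subgroup S, (∀ a ∈ A, ∀ b ∈ A, a * b = b * a) → (∀ p ∈ s, ¬ p ∣ A.index) → False

/-- The fixed points of an automorphism. -/
def FixA {S : Type u} [Group S] (x : MulAut S) : Subgroup S := x.toMonoidHom.eqLocus (MonoidHom.id S)

theorem mem_FixA {S : Type u} [Group S] {x : MulAut S} {s : S} : s ∈ FixA x ↔ x s = s := Iff.rfl

def FactOut : Prop := ∀ (S : Type u) [Group S] [Finite S] [IsSimpleGroup S], ¬ IsMulCommutative S →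
  ∀ x : MulAut S, (orderOf x).Prime → ¬ orderOf x ∣ Nat.card S →
  ∃ r : ℕ, r.Prime ∧ r ∣ (FixA x).index ∧ ¬ orderOf x ∣ r - 1

/-- The stabilizer of a colouring. -/
def stabC {G : Type u} {Ω : Type v} {C : Type} [Group G] [MulAction G Ω] (c : Ω → C) : Subgroup G where
  carrier := {g | ∀ ω, c (g • ω) = c ω}
  one_mem' := fun ω => by rw [one_smul]
  mul_mem' := fun {a b} ha hb ω => by rw [mul_smul, ha, hb]
  inv_mem' := fun {a} ha ω => by
    have h := ha (a⁻¹ • ω)
    rw [smul_inv_smul] at h
    exact h.symm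

def FactColour : Prop := ∀ (G : Type u) (Ω : Type v) [Group G] [Finite G] [Finite Ω] [MulAction G Ω] (p : ℕ), p.Prime →
  p ≠ 2 → p ∣ Nat.card (MulAction.toPermHom G Ω).range →
  ∃ c : Ω → Fin 3, p ∣ (stabC (G := G) c).index ∧
    ∃ ω : Ω, ∀ ω' : Ω, ω' ∉ MulAction.orbit G ω → c ω' = 0

/-- Distinct orbits of `Aut S`. -/
def AutNe {S : Type u} [Group S] (φ ψ : Cfsg.IrrCharacter S) : Prop :=
  ∀ a : MulAut S, (fun s => (φ : S → ℂ) (a s)) ≠ (ψ : S → ℂ)

def FactFour : Prop := ∀ (S : Type u) [Group S] [Finite S] [IsSimpleGroup S], ¬ IsMulCommutative S →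
  ∀ φ : Cfsg.IrrCharacter S, ∃ ψ : Fin 3 → Cfsg.IrrCharacter S, (∀ i, AutNe (ψ i) φ) ∧ (∀ i, AutNe φ (ψ i)) ∧
    ∀ i j, i ≠ j → AutNe (ψ i) (ψ j)

end Cfsg.Agent.H672.Four
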