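import Cfsg.Agent.H672.Four.Field

/-!
# S4773: the module-theoretic core of the second case (helper672)

`H` acts faithfully on `V`, `X` is a nonsolvable normal subgroup of prime index `t`, `t` prime to `|X|`: the Sylow
`t`-subgroups of `H` do not satisfy the unique fixing property.
-/

set_option autoImplicit false

namespace Cfsg.Agent.H672.Four

open Subgroup Cfsg.Agent.H670.Palfy
open scoped commutatorElement

universe u v

/-- The prime divisors of `(c ^ t - 1) / (c - 1)`, prime to `t`, are `≡ 1 mod t`. -/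
theorem dvd_sub_one_of_geom {c t k q : ℕ} (hc : 2 ≤ c) (ht : t.Prime) (hk : c ^ t - 1 = k * (c - 1))
    (hk1 : k ≡ 1 [MOD t]) (hq : q.Prime) (hqk : q ∣ k) : t ∣ q - 1 := by
  have : Fact q.Prime := ⟨hq⟩
  have h1 : 1 ≤ c ^ t := Nat.one_le_pow _ _ (by omega)
  have hct : (c : ZMod q) ^ t = 1 := by
    have h2 : q ∣ c ^ t - 1 := by rw [hk]; exact Dvd.dvd.mul_right hqk _
    have h3 : (1 : ℕ) ≡ c ^ t [MOD q] := (Nat.modEq_iff_dvd' h1).2 h2
    have h4 := (ZMod.natCast_eq_natCast_iff _ _ _).2 h3
    rw [Nat.cast_pow, Nat.cast_one] at h4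
    exact h4.symm
  have hc0 : (c : ZMod q) ≠ 0 := by
    intro h0
    rw [h0, zero_pow ht.ne_zero] at hct
    exact zero_ne_one hct
  have h2 := orderOf_dvd_of_pow_eq_one hct
  rcases (Nat.dvd_prime ht).1 h2 with h3 | h3
  · exfalso
    have hc1 : (c : ZMod q) = 1 := orderOf_eq_one_iff.1 h3
    have hgeo : k = ∑ i ∈ Finset.range t, c ^ i := by
      have h4 : (∑ i ∈ Finset.range t, c ^ i) * (c - 1) = c ^ t - 1 := by
        have := Nat.geomSum_eq hc t
        rw [this, Nat.div_mul_cancel]
        have := Nat.sub_dvd_pow_sub_pow c 1 t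
        rwa [one_pow] at this
      rw [hk] at h4
      exact (Nat.eq_of_mul_eq_mul_right (by omega) h4).symm
    have h5 : (k : ZMod q) = (t : ZMod q) := by
      rw [hgeo, Nat.cast_sum]
      simp [hc1]
    have h6 : (k : ZMod q) = 0 := (ZMod.natCast_eq_zero_iff _ _).2 hqk
    rw [h6] at h5
    have h7 : q ∣ t := (ZMod.natCast_eq_zero_iff _ _).1 h5.symm
    have h8 : q = t := (Nat.prime_dvd_prime_iff_eq hq ht).1 h7
    subst h8
    have h9 : 0 ≡ 1 [MOD q] := ((Nat.modEq_zero_iff_dvd.2 hqk).symm).trans hk1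
    have h10 := (Nat.modEq_iff_dvd' (Nat.zero_le 1)).1 h9
    exact ht.one_lt.ne' (Nat.dvd_one.1 h10)
  · have h4 := ZMod.orderOf_dvd_card_sub_one hc0
    rwa [h3] at h4

theorem b2core (hK : H566.KnownAll.{u}) (hG : FactG.{u}) (hRt : FactRoot.{u, v}) {H : Type u} {V : Type v} [Group H]
    [Finite H] [AddCommGroup V] [Finite V] [DistribMulAction H V] {l n r : ℕ} (h : Dat H V l n r) {t : ℕ}
    [ht : Fact t.Prime] (hu : UF t H (⊥ : AddSubgroup V)) (X : Subgroup H) [hXn : X.Normal]
    (hX : ¬ Group.IsSolvable X) (hi : X.index = t) (htX : ¬ t ∣ Nat.card X) : False := by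
  have hVn := h.nontrivial
  have hr : Fact r.Prime := ⟨h.hr⟩
  have htH : t ∣ Nat.card H := by rw [← hi]; exact X.index_dvd_card
  have hHn : ¬ Group.IsSolvable H := fun hs => hX inferInstance
  have hrX : r ∣ Nat.card X := dvd_of_nonsolvable h.hf h.hr h.irr hK (h.dvd_card hu htH) X hX
  -- a Sylow `r`-subgroup of `X`
  obtain ⟨Y⟩ : Nonempty (Sylow r X) := inferInstance
  have hYp : IsPGroup r ((Y : Subgroup X).map X.subtype) := Y.isPGroup'.map _
  have hY1 : (Y : Subgroup X).map X.subtype ≠ ⊥ := by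
    intro h0
    rw [(Subgroup.map_eq_bot_iff_of_injective _ X.subtype_injective)] at h0
    have h1 := Y.dvd_card_of_dvd_card hrX
    rw [h0, Subgroup.card_bot] at h1
    exact h.hr.one_lt.ne' (Nat.dvd_one.1 h1)
  obtain ⟨-, y, -, hy1, hyr, hyN⟩ := norm_sylow_solvable h.hf h.hr h.irr hYp hY1
  set N : Subgroup H := normalizer (((Y : Subgroup X).map X.subtype : Subgroup H) : Set H) with hN
  have hNX : N ⊔ X = ⊤ := Sylow.normalizer_sup_eq_top Y
  have htN : t ∣ Nat.card N := by
    have h1 : X.relIndex N = t := by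
      rw [← Subgroup.relIndex_sup_right, hNX, Subgroup.relIndex_top_right, hi]
    rw [← h1]
    exact Subgroup.relIndex_dvd_card _ _
  obtain ⟨x0, hx0⟩ := exists_prime_orderOf_dvd_card' t htN
  set x : H := (x0 : H) with hx
  have hxo : orderOf x = t := by rw [hx, Subgroup.orderOf_coe, hx0]
  have hxy : x * y * x⁻¹ ∈ zpowers y := hyN x x0.2
  have hyo : orderOf y = r := orderOf_eq_prime hyr hy1
  -- the Sylow `t`-subgroup
  have hxP : IsPGroup t (zpowers x) := IsPGroup.of_card (n := 1) (by rw [Nat.card_zpowers, hxo, pow_one])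
  obtain ⟨Q, hQ⟩ := hxP.exists_le_sylow
  have hQX : (Q : Subgroup H) ⊓ X = ⊥ := by
    have h1 : (Nat.card (Q : Subgroup H)).Coprime (Nat.card X) := by
      obtain ⟨k, hk⟩ := (IsPGroup.iff_card).1 Q.isPGroup'
      rw [hk]
      exact Nat.Coprime.pow_left k ((Nat.Prime.coprime_iff_not_dvd ht.out).2 htX)
    exact (Subgroup.disjoint_of_coprime_natCard h1).eq_bot
  have hQc : Nat.card (Q : Subgroup H) ∣ t := by
    have h1 : X.relIndex (Q : Subgroup H) = Nat.card (Q : Subgroup H) := by
      rw [← Subgroup.inf_relIndex_right, inf_comm, hQX, Subgroup.relIndex_bot_left]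
    have h2 : X.relIndex (Q : Subgroup H) ∣ X.index := Subgroup.relIndex_dvd_index_of_normal _ _
    rwa [h1, hi] at h2
  have hQx : (Q : Subgroup H) = zpowers x := by
    symm
    apply Subgroup.eq_of_le_of_card_ge hQ
    rw [Nat.card_zpowers, hxo]
    exact Nat.le_of_dvd ht.out.pos hQc
  obtain ⟨v, hv0, hv⟩ := UF.exists_fixed hu Q
  have hxv : x • v = v := hv x (by rw [hQx]; exact mem_zpowers x)
  have hroot := hRt H V h.hf x y (by rw [hxo]; exact ht.out) (by rw [hyo]; exact h.hr) (h.irr y hyr hy1) hxy v hv0 hxv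
  rw [hxo] at hroot
  set c := Nat.card (fixed V (zpowers x)) with hc
  have hc2 : 2 ≤ c := by
    have : Nontrivial (fixed V (zpowers x)) := by
      refine ⟨⟨v, by rw [← hQx]; exact hv⟩, 0, fun h0 => hv0 (congrArg Subtype.val h0)⟩
    exact Finite.one_lt_card
  have hcount := hu.card_mul Q
  rw [hroot, hQx, ← hc] at hcount
  -- the number of Sylow subgroups
  have hcomm : ∀ g k : H, g * k * g⁻¹ * k⁻¹ ∈ X := by
    intro g k
    have h1 : Nat.card (H ⧸ X) = t := hi
    have : IsCyclic (H ⧸ X) := isCyclic_of_prime_card h1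
    have h2 := IsMulCommutative.is_comm.comm (QuotientGroup.mk' X g) (QuotientGroup.mk' X k)
    have h3 : QuotientGroup.mk' X (g * k * g⁻¹ * k⁻¹) = 1 := by
      rw [map_mul, map_mul, map_mul, map_inv, map_inv, h2]
      group
    exact (QuotientGroup.eq_one_iff _).1 h3
  have hNQ : normalizer ((Q : Subgroup H) : Set H) = centralizer ({x} : Set H) := by
    rw [hQx]
    ext g
    rw [mem_centralizer_singleton_iff]
    constructor
    · intro hg
      have h1 : g * x * g⁻¹ ∈ zpowers x := (mem_normalizer_iff.1 hg x).1 (mem_zpowers x)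
      have h2 : g * x * g⁻¹ * x⁻¹ ∈ (Q : Subgroup H) ⊓ X := by
        refine mem_inf.2 ⟨?_, hcomm g x⟩
        rw [hQx]
        exact mul_mem h1 (inv_mem (mem_zpowers x))
      rw [hQX, mem_bot] at h2
      have h3 : g * x * g⁻¹ = x := mul_inv_eq_one.1 h2
      exact mul_inv_eq_iff_eq_mul.1 h3
    · intro hg
      rw [mem_normalizer_iff]
      have hg' : Commute g x := hg
      intro w
      constructor
      · rintro ⟨k, rfl⟩
        change g * x ^ k * g⁻¹ ∈ _
        rw [(hg'.zpow_right k).eq, mul_inv_cancel_right]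
        exact ⟨k, rfl⟩
      · rintro ⟨k, hk⟩
        change x ^ k = g * w * g⁻¹ at hk
        have h1 : w = g⁻¹ * x ^ k * g := by rw [hk]; group
        rw [h1, ((hg'.inv_left).zpow_right k).eq, inv_mul_cancel_right]
        exact ⟨k, rfl⟩
  have hCX : centralizer ({x} : Set H) ⊔ X = ⊤ := by
    have h1 : (centralizer ({x} : Set H) ⊔ X).index ∣ X.index := Subgroup.index_dvd_of_le le_sup_right
    rw [hi] at h1
    rcases (Nat.dvd_prime ht.out).1 h1 with h2 | h2
    · exact Subgroup.index_eq_one.1 h2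
    · exfalso
      have h3 : X.relIndex (centralizer ({x} : Set H) ⊔ X) * (centralizer ({x} : Set H) ⊔ X).index = X.index :=
        Subgroup.relIndex_mul_index le_sup_right
      rw [h2, hi] at h3
      have h4 : X.relIndex (centralizer ({x} : Set H) ⊔ X) = 1 :=
        Nat.eq_of_mul_eq_mul_right ht.out.pos (by rw [h3, one_mul])
      have h5 : x ∈ X := (Subgroup.relIndex_eq_one.1 h4)
        ((le_sup_left : _ ≤ centralizer ({x} : Set H) ⊔ X) (mem_centralizer_singleton_iff.2 rfl))
      have h6 : x ∈ (Q : Subgroup H) ⊓ X := mem_inf.2 ⟨by rw [hQx]; exact mem_zpowers x, h5⟩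
      rw [hQX, mem_bot] at h6
      rw [h6, orderOf_one] at hxo
      exact ht.out.one_lt.ne hxo
  have hrel : (centralizer ({x} : Set H)).relIndex X = Nat.card (Sylow t H) := by
    have hNQ' : normalizer (Q : Set H) = centralizer ({x} : Set H) := hNQ
    rw [Sylow.card_eq_index_normalizer Q, hNQ', ← Lib.SylowNormalInf.relIndex_sup_of_normal, hCX,
      Subgroup.relIndex_top_right]
  obtain ⟨R, hRn, hRX, hRs, hR⟩ := hG H X x (by rw [hxo]; exact ht.out) (by rw [hxo]; exact htX) (by
    intro q hq hqd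
    rw [hxo]
    rw [hrel] at hqd
    exact dvd_sub_one_of_geom hc2 ht.out hcount (card_sylow_modEq_one t H) hq hqd)
  -- the centre of `H / R`
  set W : Subgroup H := (center (H ⧸ R)).comap (QuotientGroup.mk' R) with hW
  have hWn : W.Normal := inferInstance
  have hgen : ∀ g : H, ∃ a ∈ X, ∃ k : ℤ, g = a * x ^ k := by
    have h1 : X ⊔ zpowers x = ⊤ := by
      have h2 : (X ⊔ zpowers x).index ∣ X.index := Subgroup.index_dvd_of_le le_sup_left
      rw [hi] at h2
      rcases (Nat.dvd_prime ht.out).1 h2 with h2 | h2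
      · exact Subgroup.index_eq_one.1 h2
      · exfalso
        have h3 : X.relIndex (X ⊔ zpowers x) * (X ⊔ zpowers x).index = X.index :=
          Subgroup.relIndex_mul_index le_sup_left
        rw [h2, hi] at h3
        have h4 : X.relIndex (X ⊔ zpowers x) = 1 :=
          Nat.eq_of_mul_eq_mul_right ht.out.pos (by rw [h3, one_mul])
        have h5 : x ∈ X := (Subgroup.relIndex_eq_one.1 h4)
          ((le_sup_right : _ ≤ X ⊔ zpowers x) (mem_zpowers x))
        have h6 : x ∈ (Q : Subgroup H) ⊓ X := mem_inf.2 ⟨by rw [hQx]; exact mem_zpowers x, h5⟩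
        rw [hQX, mem_bot] at h6
        rw [h6, orderOf_one] at hxo
        exact ht.out.one_lt.ne hxo
    intro g
    have h2 : g ∈ X ⊔ zpowers x := by rw [h1]; trivial
    obtain ⟨a, ha, _, ⟨k, rfl⟩, rfl⟩ := Subgroup.mem_sup_of_normal_left.1 h2
    exact ⟨a, ha, k, rfl⟩
  have hxW : x ∈ W := by
    rw [hW, mem_comap, mem_center_iff]
    intro g
    obtain ⟨g, rfl⟩ := QuotientGroup.mk_surjective g
    obtain ⟨a, ha, k, rfl⟩ := hgen g
    have h1 := hR a ha
    rw [← QuotientGroup.eq_one_iff, QuotientGroup.mk_mul, QuotientGroup.mk_mul, QuotientGroup.mk_mul,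
      QuotientGroup.mk_inv, QuotientGroup.mk_inv] at h1
    have h2 : (x : H ⧸ R) * a = a * x := by
      have h3 := mul_inv_eq_one.1 h1
      exact mul_inv_eq_iff_eq_mul.1 h3
    change ((a * x ^ k : H) : H ⧸ R) * (x : H ⧸ R) = (x : H ⧸ R) * ((a * x ^ k : H) : H ⧸ R)
    rw [QuotientGroup.mk_mul, QuotientGroup.mk_zpow, ← mul_assoc, h2, mul_assoc, mul_assoc]
    congr 1
    exact ((Commute.refl (x : H ⧸ R)).zpow_left k).eq
  have hRW : R ≤ W := by
    intro g hg
    rw [hW, mem_comap]
    have : QuotientGroup.mk' R g = 1 := (QuotientGroup.eq_one_iff g).2 hg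
    rw [this]
    exact one_mem _
  have hWs : Group.IsSolvable W := by
    have hRn' : (R.subgroupOf W).Normal := inferInstance
    refine (Group.isSolvable_iff_subgroup_quotient (R.subgroupOf W)).2 ⟨?_, ?_⟩
    · have := hRs
      exact Group.isSolvable_of_isSolvable_injective (f := (subgroupOfEquivOfLe hRW).toMonoidHom)
        (subgroupOfEquivOfLe hRW).injective
    · refine Group.isSolvable_of_comm ?_
      intro a b
      induction a using QuotientGroup.induction_on with
      | H a =>
      induction b using QuotientGroup.induction_on with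
      | H b =>
      rw [← QuotientGroup.mk_mul, ← QuotientGroup.mk_mul, QuotientGroup.eq]
      rw [mem_subgroupOf]
      have h1 : QuotientGroup.mk' R (a : H) ∈ center (H ⧸ R) := a.2
      rw [mem_center_iff] at h1
      have h2 := h1 (QuotientGroup.mk' R b)
      rw [← map_mul, ← map_mul] at h2
      have h3 := QuotientGroup.eq.1 h2
      have h4 : (((b : H) * a)⁻¹ * ((a : H) * b))⁻¹ = (((a * b)⁻¹ * (b * a) : W) : H) := by
        push_cast
        group
      rw [← h4]
      exact inv_mem h3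
  refine h.not_dvd_solvable hu hHn W hWs ?_
  rw [← hxo]
  have := orderOf_dvd_natCard (⟨x, hxW⟩ : W)
  rwa [Subgroup.orderOf_mk] at this

end Cfsg.Agent.H672.Four
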