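import Cfsg.Agent.H670.Palfy.Defs
import Cfsg.Agent.H675.Nd.Cliff
import Cfsg.Agent.Characters.CentralCharacter
import Cfsg.Agent.S0022
import Cfsg.Agent.S0026
import Cfsg.Agent.S0027
import Cfsg.Agent.H161.PalForm

/-!
# A normal Sylow subgroup `Z` of `H` trivial on `M` (helper161)

`factT2b` : the fields `ker_com`, `card_com`, `pow_com`, `ker_or` of `Cfsg.Agent.H670.Palfy.T2`.
-/

set_option autoImplicit false
set_option linter.unusedSectionVars false
set_option linter.style.haveILetI false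

namespace Cfsg.Agent.H672.Four.T2b

open Cfsg Cfsg.Agent.H670.Palfy Cfsg.Agent.H675.Nd Cfsg.Agent.H672.RM Cfsg.Agent.H672
open Cfsg.Agent.Characters.Core Cfsg.Agent.Characters.Clifford
open scoped commutatorElement

universe u

variable {G : Type u} [Group G] [Finite G] {M P H : Subgroup G} [hMn : M.Normal] [hPn : P.Normal] {p : ℕ}

section sep

theorem le_of (h : T2pre G M P H p) : M ≤ P := by
  rw [← h.comm]
  exact Subgroup.commutator_le_left P P

/-- linear characters separate the elements of `P / M` -/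
theorem sepP (h : T2pre G M P H p) {x : G} (hx : x ∈ P) (hl : ∀ l : LC P, l.hom ⟨x, hx⟩ = 1) : x ∈ M := by
  by_contra hcon
  obtain ⟨β, -, hβ⟩ := exists_lin_ne (K := M) (T := P) (le_of h) h.comm.le (x := ⟨x, hx⟩) hcon
  exact hβ (hl (LC.of β))

/-- linear characters separate the elements of `M` -/
theorem sepM (h : T2pre G M P H p) {x : G} (hx : x ∈ M) (hl : ∀ l : LC M, l.hom ⟨x, hx⟩ = 1) : x = 1 := by
  by_contra hcon
  have hab : ⁅M, M⁆ ≤ (⊥ : Subgroup G) := by
    rw [Subgroup.commutator_le]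
    intro a ha b hb
    rw [Subgroup.mem_bot, commutatorElement_eq_one_iff_mul_comm]
    exact h.cen a ha b (le_of h hb)
  obtain ⟨β, -, hβ⟩ := exists_lin_ne (K := (⊥ : Subgroup G)) (T := M) bot_le hab (x := ⟨x, hx⟩)
    (fun hb => hcon (Subgroup.mem_bot.1 hb))
  exact hβ (hl (LC.of β))

theorem smul_hom' {N : Subgroup G} [hN : N.Normal] (g : G) (l : LC N) (n : G) (hn : n ∈ N) :
    (g⁻¹ • l).hom ⟨n, hn⟩ = l.hom ⟨g * n * g⁻¹, hN.conj_mem n hn g⟩ := by
  rw [LC.smul_hom]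
  congr 1
  apply Subtype.ext
  simp

/-- an element of `H` acts trivially on the characters of `M` if and only if it centralizes `M` -/
theorem fix_iff (h : T2pre G M P H p) (t : H) :
    (∀ v : LC M, t • v = v) ↔ ∀ m ∈ M, (t : G) * m * (t : G)⁻¹ = m := by
  constructor
  · intro ht m hm
    have ht' : ∀ v : LC M, (t : G)⁻¹ • v = v := by
      intro v
      have h1 : (t : G) • v = v := ht v
      rw [inv_smul_eq_iff, h1]
    have h1 : (t : G) * m * (t : G)⁻¹ ∈ M := hMn.conj_mem m hm t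
    have h2 := sepM h (M.mul_mem h1 (M.inv_mem hm)) (fun l => by
      have h3 := smul_hom' (t : G) l m hm
      rw [ht'] at h3
      have h4 : l.hom ⟨(t : G) * m * (t : G)⁻¹ * m⁻¹, M.mul_mem h1 (M.inv_mem hm)⟩ =
          l.hom ⟨(t : G) * m * (t : G)⁻¹, h1⟩ * (l.hom ⟨m, hm⟩)⁻¹ := by
        rw [← map_inv, ← map_mul]
        rfl
      rw [h4, ← h3, mul_inv_cancel])
    exact mul_inv_eq_one.1 h2
  · intro ht v
    have h1 : (t : G)⁻¹ • v = v := by
      apply LC.ext
      intro n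
      have h2 := smul_hom' (t : G) v n n.2
      change ((t : G)⁻¹ • v).hom ⟨n, n.2⟩ = _
      rw [h2]
      congr 1
      exact Subtype.ext (ht n n.2)
    change (t : G) • v = v
    rw [← inv_smul_eq_iff.1 h1]

end sep

section coprime

variable {z : ℕ}

/-- `Z` as a subgroup of `G` -/
def zG (Z : Sylow z H) : Subgroup G := (Z : Subgroup H).map H.subtype

/-- The Sylow `z`-subgroups of `H` are solvable (always true). -/
def SolZ (H : Subgroup G) (z : ℕ) : Prop := ∀ Z : Sylow z H, Group.IsSolvable (zG Z)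

theorem mem_zG {Z : Sylow z H} {y : G} : y ∈ zG Z ↔ ∃ a ∈ (Z : Subgroup H), (a : G) = y := Iff.rfl

/-- `C_P(Z)` -/
def cG (P : Subgroup G) (Z : Sylow z H) : Subgroup G := P ⊓ Subgroup.centralizer (zG Z : Set G)

/-- `[P, Z]` -/
def eG (P : Subgroup G) (Z : Sylow z H) : Subgroup G := ⁅P, zG Z⁆

theorem mem_cG {Z : Sylow z H} {x : G} : x ∈ cG P Z ↔ x ∈ P ∧ ∀ a ∈ (Z : Subgroup H), (a : G) * x = x * a := by
  constructor
  · rintro ⟨h1, h2⟩
    exact ⟨h1, fun a ha => Subgroup.mem_centralizer_iff.1 h2 a ⟨a, ha, rfl⟩⟩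
  · rintro ⟨h1, h2⟩
    refine ⟨h1, Subgroup.mem_centralizer_iff.2 ?_⟩
    rintro _ ⟨a, ha, rfl⟩
    exact h2 a ha

theorem eG_le (Z : Sylow z H) : eG P Z ≤ P := Subgroup.commutator_le_left _ _

theorem exists_mul (h : T2pre G M P H p) (g : G) : ∃ t ∈ H, ∃ x ∈ P, t * x = g := by
  have h1 : g ∈ H ⊔ P := by
    rw [sup_comm, h.compl.sup_eq_top]
    trivial
  exact Subgroup.mem_sup_of_normal_right.1 h1

theorem conj_zG {Z : Sylow z H} (hZn : (Z : Subgroup H).Normal) {t : G} (ht : t ∈ H) {y : G} (hy : y ∈ zG Z) :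
    t * y * t⁻¹ ∈ zG Z := by
  obtain ⟨a, ha, rfl⟩ := mem_zG.1 hy
  exact mem_zG.2 ⟨⟨t, ht⟩ * a * ⟨t, ht⟩⁻¹, hZn.conj_mem a ha _, rfl⟩

theorem normal_eG (h : T2pre G M P H p) {Z : Sylow z H} (hZn : (Z : Subgroup H).Normal) : (eG P Z).Normal := by
  have key : ∀ g : G, (∀ y ∈ P, ∀ w ∈ zG Z, g * ⁅y, w⁆ * g⁻¹ ∈ eG P Z) → ∀ n ∈ eG P Z, g * n * g⁻¹ ∈ eG P Z := by
    intro g hg n hn
    have h1 : eG P Z ≤ (eG P Z).comap (MulAut.conj g).toMonoidHom := by
      change ⁅P, zG Z⁆ ≤ _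
      rw [Subgroup.commutator_le]
      intro y hy w hw
      exact hg y hy w hw
    exact h1 hn
  have hP' : ∀ x ∈ P, ∀ n ∈ eG P Z, x * n * x⁻¹ ∈ eG P Z := by
    intro x hx
    apply key
    intro y hy w hw
    have h1 : x * ⁅y, w⁆ * x⁻¹ = ⁅x * y, w⁆ * ⁅x, w⁆⁻¹ := by
      simp only [commutatorElement_def]
      group
    rw [h1]
    exact (eG P Z).mul_mem (Subgroup.commutator_mem_commutator (P.mul_mem hx hy) hw)
      ((eG P Z).inv_mem (Subgroup.commutator_mem_commutator hx hw))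
  have hH' : ∀ t ∈ H, ∀ n ∈ eG P Z, t * n * t⁻¹ ∈ eG P Z := by
    intro t ht
    apply key
    intro y hy w hw
    have h1 : t * ⁅y, w⁆ * t⁻¹ = ⁅t * y * t⁻¹, t * w * t⁻¹⁆ := by
      simp only [commutatorElement_def]
      group
    rw [h1]
    exact Subgroup.commutator_mem_commutator (hPn.conj_mem y hy t) (conj_zG hZn ht hw)
  constructor
  intro n hn g
  obtain ⟨t, ht, x, hx, rfl⟩ := exists_mul h g
  have h1 := hH' t ht _ (hP' x hx n hn)
  have e : t * (x * n * x⁻¹) * t⁻¹ = t * x * n * (t * x)⁻¹ := by group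
  rwa [e] at h1

theorem cop (h : T2pre G M P H p) (hz : z.Prime) (hzp : z ≠ p) (Z : Sylow z H) :
    (Nat.card (zG Z)).Coprime (Nat.card P) := by
  have hp := h.prime
  haveI : Fact z.Prime := ⟨hz⟩
  haveI : Fact p.Prime := ⟨hp⟩
  have h1 : IsPGroup z (zG Z) := Z.isPGroup'.map _
  obtain ⟨a, ha⟩ := IsPGroup.iff_card.1 h1
  obtain ⟨b, hb⟩ := IsPGroup.iff_card.1 h.isP
  rw [ha, hb]
  exact Nat.Coprime.pow _ _ ((Nat.coprime_primes hz hp).2 hzp)

theorem zG_le (Z : Sylow z H) : zG Z ≤ Subgroup.normalizer (P : Set G) := by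
  rw [Subgroup.normalizer_eq_top]
  exact le_top

theorem solv_zG (hG : SolZ H z) (Z : Sylow z H) : Group.IsSolvable (zG Z) := hG Z

variable (h : T2pre G M P H p) (hz : z.Prime) (hzp : z ≠ p) {Z : Sylow z H} (hZn : (Z : Subgroup H).Normal)
  (hVM : Triv (LC M) (Z : Subgroup H))

include h hVM in
theorem le_cG : M ≤ cG P Z := by
  intro m hm
  refine mem_cG.2 ⟨le_of h hm, fun a ha => ?_⟩
  have h1 := (fix_iff h a).1 (fun v => hVM a ha v) m hm
  exact mul_inv_eq_iff_eq_mul.1 h1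

include h hz hzp hVM in
theorem mem_cG_of {x : G} (hx : x ∈ P) (hfix : ∀ a ∈ (Z : Subgroup H), (a : G) * x * (a : G)⁻¹ * x⁻¹ ∈ M)
    (hG : SolZ H z) : x ∈ cG P Z := by
  obtain ⟨c, hc, hc'⟩ := Cfsg.Agent.S0022.result (zG Z) P (zG_le Z) (cop h hz hzp Z) (Or.inl (solv_zG hG Z)) M
    (le_of h) (by rw [Subgroup.normalizer_eq_top]; exact le_top) (by rw [Subgroup.normalizer_eq_top]; exact le_top)
    x hx (by
      rintro _ ⟨a, ha, rfl⟩
      exact hfix a ha)
  have h1 : x⁻¹ * c ∈ cG P Z := le_cG h hVM hc'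
  have h2 : x = c * (x⁻¹ * c)⁻¹ := by group
  rw [h2]
  exact (cG P Z).mul_mem hc ((cG P Z).inv_mem h1)

include h hz hzp hVM in
theorem mem_cG_of_com {x : G} (hx : x ∈ P) (hG : SolZ H z)
    (hw : ∀ w ∈ com (LC P) (Z : Subgroup H), w.hom ⟨x, hx⟩ = 1) : x ∈ cG P Z := by
  apply mem_cG_of h hz hzp hVM hx _ hG
  intro a ha
  have h1 : (a : G) * x * (a : G)⁻¹ ∈ P := hPn.conj_mem x hx a
  apply sepP h (P.mul_mem h1 (P.inv_mem hx))
  intro l
  have h2 := hw _ (AddSubgroup.subset_closure ⟨a⁻¹, (Z : Subgroup H).inv_mem ha, l, rfl⟩)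
  have h3 : ((a⁻¹ : H) • l - l).hom ⟨x, hx⟩ = ((a : G)⁻¹ • l).hom ⟨x, hx⟩ * (l.hom ⟨x, hx⟩)⁻¹ := by
    rw [sub_eq_add_neg, LC.hom_add, LC.hom_neg]
    rfl
  rw [h3, smul_hom'] at h2
  rw [← h2, ← map_inv, ← map_mul]
  rfl

include h hz hzp in
theorem sup_eq (hG : SolZ H z) (Z : Sylow z H) : eG P Z ⊔ cG P Z = P :=
  Cfsg.Agent.S0026.result (zG Z) P (zG_le Z) (cop h hz hzp Z) (Or.inl (solv_zG hG Z))

include h hVM in
theorem comm_ec : ⁅eG P Z, cG P Z⁆ = ⊥ := by
  apply Subgroup.commutator_commutator_eq_bot_of_rotate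
  · -- `⁅⁅Z, C⁆, P⁆ = 1`
    have h1 : ⁅zG Z, cG P Z⁆ = ⊥ := by
      rw [Subgroup.commutator_eq_bot_iff_le_centralizer]
      intro y hy
      rw [Subgroup.mem_centralizer_iff]
      rintro c ⟨-, hc⟩
      exact (Subgroup.mem_centralizer_iff.1 hc y hy).symm
    rw [h1, Subgroup.commutator_bot_left]
  · -- `⁅⁅C, P⁆, Z⁆ = 1`
    have h1 : ⁅cG P Z, P⁆ ≤ M := by
      rw [← h.comm]
      exact Subgroup.commutator_mono inf_le_left le_rfl
    rw [Subgroup.commutator_eq_bot_iff_le_centralizer]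
    intro y hy
    exact (le_cG h hVM (h1 hy)).2

include h hVM in
theorem comm_of {e c : G} (he : e ∈ eG P Z) (hc : c ∈ cG P Z) : e * c = c * e := by
  have h1 : ⁅e, c⁆ ∈ ⁅eG P Z, cG P Z⁆ := Subgroup.commutator_mem_commutator he hc
  rw [comm_ec h hVM, Subgroup.mem_bot] at h1
  exact commutatorElement_eq_one_iff_mul_comm.1 h1

include h hz hzp hZn in
theorem exists_ec (hG : SolZ H z) {x : G} (hx : x ∈ P) : ∃ e ∈ eG P Z, ∃ c ∈ cG P Z, e * c = x := by
  haveI := normal_eG h hZn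
  rw [← sup_eq h hz hzp hG Z] at hx
  exact Subgroup.mem_sup_of_normal_left.1 hx

/-- `com` is invariant -/
theorem smul_mem_com (hZn : (Z : Subgroup H).Normal) (t : H) {w : LC P} (hw : w ∈ com (LC P) (Z : Subgroup H)) :
    t • w ∈ com (LC P) (Z : Subgroup H) := by
  have h1 : com (LC P) (Z : Subgroup H) ≤
      (com (LC P) (Z : Subgroup H)).comap (DistribSMul.toAddMonoidHom (LC P) t) := by
    unfold com
    rw [AddSubgroup.closure_le]
    rintro _ ⟨a, ha, v, rfl⟩
    apply AddSubgroup.subset_closure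
    refine ⟨t * a * t⁻¹, hZn.conj_mem a ha t, t • v, ?_⟩
    change t • (a • v - v) = _
    rw [smul_sub, ← mul_smul, ← mul_smul, inv_mul_cancel_right]
  exact h1 hw

theorem hom_com_eq_one {w : LC P} (hw : w ∈ com (LC P) (Z : Subgroup H)) {c : G} (hc : c ∈ cG P Z) :
    w.hom ⟨c, hc.1⟩ = 1 := by
  refine AddSubgroup.closure_induction (p := fun w _ => w.hom ⟨c, hc.1⟩ = 1) ?_ ?_ ?_ ?_ hw
  · rintro _ ⟨a, ha, v, rfl⟩
    rw [sub_eq_add_neg, LC.hom_add, LC.hom_neg]
    have h1 : (a • v).hom ⟨c, hc.1⟩ = v.hom ⟨c, hc.1⟩ := by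
      change ((a : G) • v).hom _ = _
      rw [LC.smul_hom]
      congr 1
      apply Subtype.ext
      have h3 := (mem_cG.1 hc).2 a ha
      change (a : G)⁻¹ * c * (a : G) = c
      rw [mul_assoc, ← h3, inv_mul_cancel_left]
    rw [h1, mul_inv_cancel]
  · rfl
  · intro x y _ _ hx hy
    rw [LC.hom_add, hx, hy, one_mul]
  · intro x _ hx
    rw [LC.hom_neg, hx, inv_one]

include h in
theorem card_smul (w : LC P) : Nat.card P • w = 0 := by
  apply LC.ext
  intro x
  have h1 : ∀ k : ℕ, (k • w).hom x = (w.hom x) ^ k := by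
    intro k
    induction k with
    | zero => rw [zero_smul, pow_zero]; rfl
    | succ k ih => rw [succ_nsmul, LC.hom_add, ih, pow_succ]
  rw [h1, ← map_pow, pow_card_eq_one', map_one]
  rfl

/-- a character trivial on `E` and `C` -/
theorem eq_zero_of {w : LC P} (hS : eG P Z ⊔ cG P Z = P)
    (h1 : ∀ (x : G) (hx : x ∈ P), x ∈ eG P Z → w.hom ⟨x, hx⟩ = 1)
    (h2 : ∀ (x : G) (hx : x ∈ P), x ∈ cG P Z → w.hom ⟨x, hx⟩ = 1) : w = 0 := by
  have h3 : P ≤ w.hom.ker.map P.subtype := by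
    nth_rewrite 1 [← hS]
    apply sup_le
    · intro x hx
      exact ⟨⟨x, eG_le Z hx⟩, h1 x _ hx, rfl⟩
    · intro x hx
      exact ⟨⟨x, hx.1⟩, h2 x _ hx, rfl⟩
  apply LC.ext
  intro x
  obtain ⟨y, hy, hyx⟩ := h3 x.2
  have : y = x := Subtype.ext hyx
  rw [← this]
  exact hy

include h hz hzp in
theorem mem_com_of (hG : SolZ H z) {w : LC P}
    (hw : ∀ (c : G) (hc : c ∈ cG P Z), w.hom ⟨c, hc.1⟩ = 1) : w ∈ com (LC P) (Z : Subgroup H) := by
  classical
  letI := Fintype.ofFinite (Z : Subgroup H)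
  let s : LC P := ∑ a : (Z : Subgroup H), (a : H) • w
  have hs : ∀ b ∈ (Z : Subgroup H), b • s = s := by
    intro b hb
    change b • (∑ a : (Z : Subgroup H), (a : H) • w) = ∑ a : (Z : Subgroup H), (a : H) • w
    rw [Finset.smul_sum]
    refine Fintype.sum_equiv (Equiv.mulLeft (⟨b, hb⟩ : (Z : Subgroup H))) _ _ (fun a => ?_)
    rw [← mul_smul]
    rfl
  have hu : Nat.card (Z : Subgroup H) • w - s ∈ com (LC P) (Z : Subgroup H) := by
    have h1 : Nat.card (Z : Subgroup H) • w - s = ∑ a : (Z : Subgroup H), -((a : H) • w - w) := by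
      rw [Finset.sum_neg_distrib, Finset.sum_sub_distrib, Finset.sum_const, Finset.card_univ,
        Nat.card_eq_fintype_card, neg_sub]
    rw [h1]
    refine AddSubgroup.sum_mem _ (fun a _ => AddSubgroup.neg_mem _ ?_)
    exact AddSubgroup.subset_closure ⟨a, a.2, w, rfl⟩
  have hcop : (Nat.card (Z : Subgroup H)).Coprime (Nat.card P) := by
    have h1 := cop h hz hzp Z
    have h2 : Nat.card (zG Z) = Nat.card (Z : Subgroup H) :=
      (Subgroup.card_map_of_injective H.subtype_injective)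
    rwa [h2] at h1
  obtain ⟨a, b, hab⟩ : ∃ a b : ℤ, a * Nat.card (Z : Subgroup H) + b * Nat.card P = 1 := by
    have := Nat.isCoprime_iff_coprime.2 hcop
    exact this
  have hw1 : w = a • (Nat.card (Z : Subgroup H) • w - s) + a • s := by
    have h1 : (a * Nat.card (Z : Subgroup H) + b * Nat.card P) • w = w := by rw [hab, one_smul]
    rw [add_smul, mul_smul, mul_smul, natCast_zsmul, natCast_zsmul, card_smul h, smul_zero, add_zero] at h1
    rw [smul_sub, sub_add_cancel, h1]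
  have hcom : a • (Nat.card (Z : Subgroup H) • w - s) ∈ com (LC P) (Z : Subgroup H) :=
    AddSubgroup.zsmul_mem _ hu a
  have h0 : a • s = 0 := by
    apply eq_zero_of (sup_eq h hz hzp hG Z)
    · intro x hx hxe
      have hfix : ∀ b ∈ (Z : Subgroup H), b • (a • s) = a • s := by
        intro b hb
        rw [smul_comm, hs b hb]
      have h1 : eG P Z ≤ (a • s).hom.ker.map P.subtype := by
        change ⁅P, zG Z⁆ ≤ _
        rw [Subgroup.commutator_le]
        rintro y hy _ ⟨c, hc, rfl⟩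
        have h2 : (c : G) * y⁻¹ * (c : G)⁻¹ ∈ P := hPn.conj_mem _ (P.inv_mem hy) _
        refine ⟨⟨y, hy⟩ * ⟨(c : G) * y⁻¹ * (c : G)⁻¹, h2⟩, ?_, ?_⟩
        · rw [SetLike.mem_coe, MonoidHom.mem_ker, map_mul]
          have h3 := smul_hom' (c : G) (a • s) y⁻¹ (P.inv_mem hy)
          have h4 : (c : G)⁻¹ • (a • s) = a • s := by
            have := hfix c⁻¹ ((Z : Subgroup H).inv_mem hc)
            exact this
          rw [h4] at h3
          rw [← h3, ← map_mul]
          have h5 : (⟨y, hy⟩ : P) * ⟨y⁻¹, P.inv_mem hy⟩ = 1 := Subtype.ext (mul_inv_cancel y)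
          rw [h5, map_one]
        · change y * ((c : G) * y⁻¹ * (c : G)⁻¹) = ⁅y, (c : G)⁆
          rw [commutatorElement_def]
          group
      obtain ⟨y, hy, hyx⟩ := h1 hxe
      have : y = ⟨x, hx⟩ := Subtype.ext hyx
      rw [← this]
      exact hy
    · intro x hx hxc
      have h1 : a • s = w - a • (Nat.card (Z : Subgroup H) • w - s) := eq_sub_of_add_eq' hw1.symm
      rw [h1, sub_eq_add_neg, LC.hom_add, LC.hom_neg, hw x hxc, hom_com_eq_one hcom hxc, inv_one, one_mul]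
  rw [hw1, h0, add_zero]
  exact hcom

end coprime

section kernel

variable {z : ℕ} (h : T2pre G M P H p) (hz : z.Prime) (hzp : z ≠ p) {Z : Sylow z H}
  (hZn : (Z : Subgroup H).Normal) (hVM : Triv (LC M) (Z : Subgroup H))

include h hz hzp hZn hVM in
/-- if `[E, E] = M` then the kernel on `[W, Z]` centralizes `M` -/
theorem ker_of (hG : SolZ H z) (hE : ⁅eG P Z, eG P Z⁆ = M) (t : H)
    (ht : ∀ w ∈ com (LC P) (Z : Subgroup H), t • w = w) (v : LC M) : t • v = v := by
  haveI := normal_eG h hZn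
  have h1 : ∀ x ∈ P, x⁻¹ * ((t : G) * x * (t : G)⁻¹) ∈ cG P Z := by
    intro x hx
    have hx' : (t : G) * x * (t : G)⁻¹ ∈ P := hPn.conj_mem x hx t
    apply mem_cG_of_com h hz hzp hVM (P.mul_mem (P.inv_mem hx) hx') hG
    intro w hw
    have h2 : (t : G)⁻¹ • w = w := by
      rw [inv_smul_eq_iff]
      exact (ht w hw).symm
    have h3 := smul_hom' (t : G) w x hx
    rw [h2] at h3
    have h4 : w.hom ⟨x⁻¹ * ((t : G) * x * (t : G)⁻¹), P.mul_mem (P.inv_mem hx) hx'⟩ =
        (w.hom ⟨x, hx⟩)⁻¹ * w.hom ⟨(t : G) * x * (t : G)⁻¹, hx'⟩ := by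
      rw [← map_inv, ← map_mul]
      rfl
    rw [h4, ← h3, inv_mul_cancel]
  refine (fix_iff h t).2 ?_ v
  have h2 : ⁅eG P Z, eG P Z⁆ ≤ Subgroup.centralizer ({(t : G)} : Set G) := by
    rw [Subgroup.commutator_le]
    intro e he f hf
    rw [Subgroup.mem_centralizer_singleton_iff]
    obtain ⟨c, hc⟩ : ∃ c, c = e⁻¹ * ((t : G) * e * (t : G)⁻¹) := ⟨_, rfl⟩
    obtain ⟨d, hd⟩ : ∃ d, d = f⁻¹ * ((t : G) * f * (t : G)⁻¹) := ⟨_, rfl⟩
    have hcC : c ∈ cG P Z := hc ▸ h1 e (eG_le Z he)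
    have hdC : d ∈ cG P Z := hd ▸ h1 f (eG_le Z hf)
    have hdE : d ∈ eG P Z := by
      rw [hd]
      exact (eG P Z).mul_mem ((eG P Z).inv_mem hf) (this.conj_mem f hf t)
    have h3 : (t : G) * ⁅e, f⁆ * (t : G)⁻¹ = ⁅e * c, f * d⁆ := by
      rw [hc, hd]
      simp only [commutatorElement_def]
      group
    have k1 : f * c = c * f := comm_of h hVM hf hcC
    have k2 : d * c = c * d := comm_of h hVM hdE hcC
    have k3 : e * d = d * e := comm_of h hVM he hdC
    have h4 : ⁅e * c, f * d⁆ = ⁅e, f⁆ := by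
      have e1 : e * c * (f * d) = e * f * d * c := by
        calc e * c * (f * d) = e * (c * f) * d := by group
          _ = e * f * (c * d) := by rw [← k1]; group
          _ = e * f * d * c := by rw [← k2]; group
      have e2 : f * d * (e * c) = f * e * d * c := by
        calc f * d * (e * c) = f * (d * e) * c := by group
          _ = f * e * d * c := by rw [← k3]; group
      calc ⁅e * c, f * d⁆ = e * c * (f * d) * (f * d * (e * c))⁻¹ := by
            rw [commutatorElement_def]; group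
        _ = e * f * d * c * (f * e * d * c)⁻¹ := by rw [e1, e2]
        _ = ⁅e, f⁆ := by rw [commutatorElement_def]; group
    rw [h4] at h3
    exact (mul_inv_eq_iff_eq_mul.1 h3).symm
  intro m hm
  rw [← hE] at hm
  have h3 := Subgroup.mem_centralizer_singleton_iff.1 (h2 hm)
  rw [← h3, mul_inv_cancel_right]

include h hz hzp hZn hVM in
/-- the case `[E, E] = 1` -/
theorem exists_min (hG : SolZ H z) (hE : ⁅eG P Z, eG P Z⁆ = ⊥) (hne : eG P Z ≠ ⊥) :
    ∃ M' : Subgroup G, MinN M' ∧ M' ≤ P ∧ M' ⊓ M = ⊥ := by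
  haveI hEn := normal_eG h hZn
  have hab : ∀ a ∈ eG P Z, ∀ b ∈ eG P Z, a * b = b * a := by
    intro a ha b hb
    have h1 : ⁅a, b⁆ ∈ ⁅eG P Z, eG P Z⁆ := Subgroup.commutator_mem_commutator ha hb
    rw [hE, Subgroup.mem_bot] at h1
    exact commutatorElement_eq_one_iff_mul_comm.1 h1
  have hEM : eG P Z ⊓ cG P Z = ⊥ := by
    classical
    letI : CommGroup (eG P Z) := { (inferInstance : Group (eG P Z)) with
      mul_comm := fun a b => Subtype.ext (hab a a.2 b b.2) }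
    letI := Fintype.ofFinite (Z : Subgroup H)
    let cj : ↥(Z : Subgroup H) → (eG P Z →* eG P Z) := fun a =>
      (MulAut.conjNormal ((a : H) : G) : MulAut (eG P Z)).toMonoidHom
    have hcj : ∀ (a : (Z : Subgroup H)) (x : eG P Z), ((cj a x : eG P Z) : G) = (a : H) * x * ((a : H) : G)⁻¹ :=
      fun a x => rfl
    let φ : eG P Z →* eG P Z :=
      { toFun := fun x => ∏ a : (Z : Subgroup H), cj a x
        map_one' := by simp
        map_mul' := fun x y => by
          simp only [map_mul]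
          exact Finset.prod_mul_distrib }
    have hφ : ∀ x : eG P Z, φ x = ∏ a : (Z : Subgroup H), cj a x := fun x => rfl
    have hinv : ∀ (b : (Z : Subgroup H)) (x : eG P Z), φ (cj b x) = φ x := by
      intro b x
      rw [hφ, hφ]
      refine Fintype.prod_equiv (Equiv.mulRight b) _ _ (fun a => ?_)
      apply Subtype.ext
      rw [hcj, hcj, hcj]
      change ((a : H) : G) * (((b : H) : G) * x * ((b : H) : G)⁻¹) * ((a : H) : G)⁻¹ =
        (((a : H) : G) * ((b : H) : G)) * x * (((a : H) : G) * ((b : H) : G))⁻¹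
      group
    have hst : ⁅eG P Z, zG Z⁆ = eG P Z :=
      Cfsg.Agent.S0027.result (zG Z) P (zG_le Z) (cop h hz hzp Z) (Or.inl (solv_zG hG Z))
    have htriv : ∀ x : eG P Z, φ x = 1 := by
      have h1 : eG P Z ≤ φ.ker.map (eG P Z).subtype := by
        nth_rewrite 1 [← hst]
        rw [Subgroup.commutator_le]
        rintro y hy _ ⟨b, hb, rfl⟩
        refine ⟨⟨y, hy⟩ * cj ⟨b, hb⟩ ⟨y, hy⟩⁻¹, ?_, ?_⟩
        · rw [SetLike.mem_coe, MonoidHom.mem_ker, map_mul, hinv, map_inv, mul_inv_cancel]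
        · change y * ((b : G) * y⁻¹ * (b : G)⁻¹) = ⁅y, (b : G)⁆
          rw [commutatorElement_def]
          group
      intro x
      obtain ⟨y, hy, hyx⟩ := h1 x.2
      have : y = x := Subtype.ext hyx
      rw [← this]
      exact hy
    rw [eq_bot_iff]
    rintro x ⟨hxE, hxC⟩
    have h1 := htriv ⟨x, hxE⟩
    have h2 : φ ⟨x, hxE⟩ = (⟨x, hxE⟩ : eG P Z) ^ Nat.card (Z : Subgroup H) := by
      rw [hφ, Finset.prod_congr rfl (g := fun _ => (⟨x, hxE⟩ : eG P Z)), Finset.prod_const, Finset.card_univ,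
        Nat.card_eq_fintype_card]
      intro a _
      apply Subtype.ext
      rw [hcj]
      have h3 := (mem_cG.1 hxC).2 a a.2
      change ((a : H) : G) * x * ((a : H) : G)⁻¹ = x
      rw [h3, mul_inv_cancel_right]
    rw [h2] at h1
    have h3 : x ^ Nat.card (Z : Subgroup H) = 1 := by
      have := congrArg Subtype.val h1
      simpa using this
    have h4 : x ^ Nat.card P = 1 := by
      have h5 : (⟨x, hxC.1⟩ : P) ^ Nat.card P = 1 := pow_card_eq_one'
      exact congrArg Subtype.val h5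
    have hcop : (Nat.card (Z : Subgroup H)).Coprime (Nat.card P) := by
      have h1 := cop h hz hzp Z
      have h2 : Nat.card (zG Z) = Nat.card (Z : Subgroup H) :=
        (Subgroup.card_map_of_injective H.subtype_injective)
      rwa [h2] at h1
    have h5 : orderOf x = 1 :=
      Nat.eq_one_of_dvd_coprimes hcop (orderOf_dvd_of_pow_eq_one h3) (orderOf_dvd_of_pow_eq_one h4)
    rw [Subgroup.mem_bot]
    exact orderOf_eq_one_iff.1 h5
  obtain ⟨N, ⟨hN1, hN2, hN3⟩, hmin⟩ := wellFounded_lt.has_min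
    {N : Subgroup G | N.Normal ∧ N ≤ eG P Z ∧ N ≠ ⊥} ⟨eG P Z, hEn, le_rfl, hne⟩
  refine ⟨N, ⟨hN3, hN1, fun K hK hKN => ?_⟩, hN2.trans (eG_le Z), ?_⟩
  · by_cases hK0 : K = ⊥
    · exact Or.inl hK0
    · right
      by_contra hcon
      exact hmin K ⟨hK, hKN.trans hN2, hK0⟩ (lt_of_le_of_ne hKN hcon)
  · rw [eq_bot_iff, ← hEM]
    exact inf_le_inf hN2 (le_cG h hVM)

include h hz hzp hVM in
/-- `Z` does not centralize `P` -/
theorem exists_not_mem (hG : SolZ H z) (hWP : ¬ Triv (LC P) (Z : Subgroup H)) :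
    ∃ g ∈ eG P Z, g ∉ cG P Z := by
  by_contra hcon
  push Not at hcon
  apply hWP
  have hP : P ≤ cG P Z := (sup_eq h hz hzp hG Z).symm.le.trans (sup_le hcon le_rfl)
  intro a ha v
  change (a : G) • v = v
  apply LC.ext
  intro n
  rw [LC.smul_hom]
  congr 1
  apply Subtype.ext
  have h3 := (mem_cG.1 (hP n.2)).2 a ha
  change (a : G)⁻¹ * n * (a : G) = n
  rw [mul_assoc, ← h3, inv_mul_cancel_left]

end kernel

section star

variable {z : ℕ} (h : T2pre G M P H p) (hz : z.Prime) {Z : Sylow z H} (hZn : (Z : Subgroup H).Normal)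

include h hz hZn in
/-- a subgroup of index prime to `z` containing `P` contains `Z` -/
theorem mem_of_index {T : Subgroup G} (hPT : P ≤ T) (hi : ¬ z ∣ T.index) {a : H} (ha : a ∈ (Z : Subgroup H)) :
    (a : G) ∈ T := by
  haveI : Fact z.Prime := ⟨hz⟩
  obtain ⟨q, hq⟩ := Z.isPGroup'.nonempty_fixed_point_of_prime_not_dvd_card (G ⧸ T) hi
  obtain ⟨g, rfl⟩ := QuotientGroup.mk_surjective q
  obtain ⟨t, ht, x, hx, rfl⟩ := exists_mul h g
  have h1 := hq ⟨⟨t, ht⟩ * a * ⟨t, ht⟩⁻¹, hZn.conj_mem a ha _⟩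
  have h2 : ((t * (a : G) * t⁻¹ * (t * x) : G) : G ⧸ T) = ((t * x : G) : G ⧸ T) := h1
  rw [eq_comm, QuotientGroup.eq] at h2
  have h3 : (t * x)⁻¹ * (t * (a : G) * t⁻¹ * (t * x)) = x⁻¹ * a * x := by group
  rw [h3] at h2
  have h4 := T.mul_mem (T.mul_mem (hPT hx) h2) (T.inv_mem (hPT hx))
  have h5 : x * (x⁻¹ * a * x) * x⁻¹ = a := by group
  rwa [h5] at h4

include h hz hZn in
/-- `Z` fixes the irreducible characters of `P` of degree divisible by `p` -/
theorem fix_char (hna : NA p z G) {θ : P → ℂ} (hθ : IsIrrCharacter P θ) (hd : p ∣ charDegree θ) {a : H}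
    (ha : a ∈ (Z : Subgroup H)) (n : P) : θ ⟨(a : G) * n * (a : G)⁻¹, hPn.conj_mem n n.2 a⟩ = θ n := by
  obtain ⟨χ, hχ, ho⟩ := exists_over_subtype P hθ
  have h1 := index_mul_charDegree_dvd P hχ hθ ho
  have h2 : ¬ z ∣ (inertia P θ).index := by
    intro h2
    exact hna _ ⟨⟨χ, hχ⟩, rfl⟩ ((hd.mul_left _).trans h1) ((h2.mul_right _).trans h1)
  have h3 := mem_of_index h hz hZn (le_inertia (isIrr_isClassFunction hθ)) h2 ha
  exact mem_inertia_iff.1 h3 n

include h in
/-- the value at an element of `P` commuting with `P` modulo the kernel is not zero -/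
theorem ne_zero_of {θ : P → ℂ} (hθ : IsIrrCharacter P θ) {l : LC M}
    (ho : Over (Subgroup.inclusion (le_of h)) θ (lf l.hom)) {g : P}
    (hg : ∀ x : P, ∀ hx : ⁅(g : G), (x : G)⁆ ∈ M, l.hom ⟨⁅(g : G), (x : G)⁆, hx⟩ = 1) : θ g ≠ 0 := by
  classical
  have hcl : P ≤ stab (lf l.hom) := by
    intro x hx
    refine ⟨by rw [Subgroup.normalizer_eq_top]; trivial, ?_⟩
    funext m
    rw [tw_apply (by rw [Subgroup.normalizer_eq_top]; trivial), lf_apply, lf_apply]
    congr 2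
    apply Subtype.ext
    change x * m * x⁻¹ = m
    rw [← h.cen m m.2 x hx, mul_inv_cancel_right]
  obtain ⟨c, hc, hc'⟩ := res_of_inv (le_of h) (isIrr_lf l.hom) hcl hθ ho
  obtain ⟨n, ρ, hρ, rfl⟩ := hθ
  haveI := hρ
  have hn : 0 < n := by
    have := Cfsg.Agent.Characters.CentralCharacter.finrank_pos_of_irreducible ρ
    simpa using this
  have htr : ∀ (y : P) (k : ℂ), ρ y = k • (LinearMap.id : (Fin n → ℂ) →ₗ[ℂ] _) → ρ.character y = k * n := by
    intro y k hk
    change LinearMap.trace ℂ _ (ρ y) = _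
    rw [hk, map_smul, LinearMap.trace_id]
    simp
  have h1 : ρ.character 1 = n := by
    rw [htr 1 1 (by rw [map_one, one_smul]; rfl), one_mul]
  have hcn : c = n := by
    have := hc' 1
    rw [map_one, h1, lf_apply, map_one] at this
    simpa using this.symm
  have hn0 : (n : ℂ) ≠ 0 := by exact_mod_cast hn.ne'
  -- `M` acts by scalars
  have hM : ∀ m : M, ρ (Subgroup.inclusion (le_of h) m) = ((l.hom m : ℂˣ) : ℂ) • LinearMap.id := by
    intro m
    obtain ⟨k, hk⟩ := Cfsg.Agent.Characters.CentralCharacter.exists_scalar_of_commute ρ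
      (ρ (Subgroup.inclusion (le_of h) m)) (by
        intro x v
        rw [← Module.End.mul_apply, ← map_mul, ← Module.End.mul_apply, ← map_mul]
        congr 2
        apply Subtype.ext
        exact h.cen m m.2 x x.2)
    have h2 := htr _ _ hk
    rw [hc' m, hcn, lf_apply, mul_comm] at h2
    rw [hk, mul_right_cancel₀ hn0 h2]
  obtain ⟨k, hk⟩ := Cfsg.Agent.Characters.CentralCharacter.exists_scalar_of_commute ρ (ρ g) (by
    intro x v
    rw [← Module.End.mul_apply, ← map_mul, ← Module.End.mul_apply, ← map_mul]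
    have hx : ⁅(g : G), (x : G)⁆ ∈ M := by
      rw [← h.comm]
      exact Subgroup.commutator_mem_commutator g.2 x.2
    have h2 : g * x = Subgroup.inclusion (le_of h) ⟨_, hx⟩ * (x * g) := by
      apply Subtype.ext
      change (g : G) * x = ⁅(g : G), (x : G)⁆ * (x * g)
      rw [commutatorElement_def]
      group
    rw [h2, map_mul, hM, hg x hx]
    simp)
  have hk0 : k ≠ 0 := by
    rintro rfl
    rw [zero_smul] at hk
    have h2 : ρ (g * g⁻¹) = 0 := by rw [map_mul, hk, zero_mul]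
    rw [mul_inv_cancel] at h2
    have h3 : ρ.character 1 = 0 := by
      change LinearMap.trace ℂ _ (ρ 1) = 0
      rw [h2, map_zero]
    rw [h1] at h3
    exact hn0 h3
  rw [htr g k hk]
  exact mul_ne_zero hk0 hn0

include h hz hZn in
/-- **The key step.** -/
theorem star (hG : SolZ H z) (hzp : z ≠ p) (hVM : Triv (LC M) (Z : Subgroup H)) (hna : NA p z G) {g : G}
    (hg : g ∈ P) {l : LC M} (hl : l ≠ 0)
    (hgl : ∀ x ∈ P, ∀ hx : ⁅g, x⁆ ∈ M, l.hom ⟨⁅g, x⁆, hx⟩ = 1) : g ∈ cG P Z := by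
  classical
  have hp := h.prime
  obtain ⟨θ, hθ, ho⟩ := exists_over_incl (le_of h) (isIrr_lf l.hom)
  have hl1 : lf l.hom ≠ 1 := by
    intro h1
    apply hl
    apply LC.ext
    intro n
    apply Units.ext
    exact congrFun h1 n
  have hd1 := nonlin_of_over (le_of h) h.comm.ge hθ (isIrr_lf l.hom) hl1 ho
  have hd : p ∣ charDegree θ := by
    haveI : Fact p.Prime := ⟨hp⟩
    obtain ⟨b, hb⟩ := IsPGroup.iff_card.1 h.isP
    have h1 := degree_dvd_card hθ
    rw [hb] at h1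
    obtain ⟨j, -, hj⟩ := (Nat.dvd_prime_pow hp).1 h1
    rcases Nat.eq_zero_or_pos j with rfl | hj0
    · exact absurd hj hd1
    · rw [hj]
      exact dvd_pow_self p hj0.ne'
  have hne : θ ⟨g, hg⟩ ≠ 0 := ne_zero_of h hθ ho (g := ⟨g, hg⟩) (fun x hx => hgl x x.2 hx)
  apply mem_cG_of h hz hzp hVM hg _ hG
  intro a ha
  have h1 : (a : G) * g * (a : G)⁻¹ ∈ P := hPn.conj_mem g hg a
  apply sepP h (P.mul_mem h1 (P.inv_mem hg))
  intro β
  have h2 := fix_char h hz hZn hna hθ hd ha ⟨g, hg⟩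
  have h3 := fix_char h hz hZn hna (isIrr_mul_lf β.hom hθ) (by
    have : charDegree (fun x => (β.hom x : ℂ) * θ x) = charDegree θ := by
      apply charDegree_of_eq
      rw [map_one, coe_charDegree hθ]
      simp
    rwa [this]) ha ⟨g, hg⟩
  have h3' : (β.hom ⟨(a : G) * g * (a : G)⁻¹, h1⟩ : ℂ) * θ ⟨(a : G) * g * (a : G)⁻¹, h1⟩ =
    (β.hom ⟨g, hg⟩ : ℂ) * θ ⟨g, hg⟩ := h3
  have h2' : θ ⟨(a : G) * g * (a : G)⁻¹, h1⟩ = θ ⟨g, hg⟩ := h2
  rw [h2'] at h3'
  have h5 : β.hom ⟨(a : G) * g * (a : G)⁻¹, h1⟩ = β.hom ⟨g, hg⟩ := Units.ext (mul_right_cancel₀ hne h3')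
  have h6 : β.hom ⟨(a : G) * g * (a : G)⁻¹ * g⁻¹, P.mul_mem h1 (P.inv_mem hg)⟩ =
      β.hom ⟨(a : G) * g * (a : G)⁻¹, h1⟩ * (β.hom ⟨g, hg⟩)⁻¹ := by
    rw [← map_inv, ← map_mul]
    rfl
  rw [h6, h5, mul_inv_cancel]

end star

section cw

theorem comm_mem (h : T2pre G M P H p) {g x : G} (hg : g ∈ P) (hx : x ∈ P) : ⁅g, x⁆ ∈ M := by
  rw [← h.comm]
  exact Subgroup.commutator_mem_commutator hg hx

theorem comm_mul_right (h : T2pre G M P H p) {g x y : G} (hg : g ∈ P) (hx : x ∈ P) (hy : y ∈ P) :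
    ⁅g, x * y⁆ = ⁅g, x⁆ * ⁅g, y⁆ := by
  have h1 := h.cen _ (comm_mem h hg hy) x hx
  calc ⁅g, x * y⁆ = ⁅g, x⁆ * (x * ⁅g, y⁆) * x⁻¹ := by simp only [commutatorElement_def]; group
    _ = ⁅g, x⁆ * (⁅g, y⁆ * x) * x⁻¹ := by rw [h1]
    _ = _ := by group

theorem comm_mul_left (h : T2pre G M P H p) {g g' x : G} (hg : g ∈ P) (hg' : g' ∈ P) (hx : x ∈ P) :
    ⁅g * g', x⁆ = ⁅g, x⁆ * ⁅g', x⁆ := by
  have h1 := h.cen _ (comm_mem h hg' hx) g hg
  have h2 := h.cen _ (comm_mem h hg' hx) ⁅g, x⁆ (le_of h (comm_mem h hg hx))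
  calc ⁅g * g', x⁆ = g * ⁅g', x⁆ * g⁻¹ * ⁅g, x⁆ := by simp only [commutatorElement_def]; group
    _ = ⁅g', x⁆ * g * g⁻¹ * ⁅g, x⁆ := by rw [h1]
    _ = ⁅g', x⁆ * ⁅g, x⁆ := by group
    _ = _ := h2

/-- the linear character `x ↦ l [g, x]` of `P` -/
def cw (h : T2pre G M P H p) (g : P) (l : LC M) : LC P :=
  LC.of
    { toFun := fun x => l.hom ⟨⁅(g : G), (x : G)⁆, comm_mem h g.2 x.2⟩
      map_one' := by
        have : (⟨⁅(g : G), ((1 : P) : G)⁆, comm_mem h g.2 (1 : P).2⟩ : M) = 1 :=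
          Subtype.ext (commutatorElement_one_right (g : G))
        rw [this, map_one]
      map_mul' := fun x y => by
        rw [← map_mul]
        congr 1
        exact Subtype.ext (comm_mul_right h g.2 x.2 y.2) }

theorem cw_hom (h : T2pre G M P H p) (g : P) (l : LC M) (x : P) :
    (cw h g l).hom x = l.hom ⟨⁅(g : G), (x : G)⁆, comm_mem h g.2 x.2⟩ := rfl

theorem cw_sub (h : T2pre G M P H p) (g : P) (l l' : LC M) : cw h g (l - l') = cw h g l - cw h g l' := by
  apply LC.ext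
  intro x
  rw [sub_eq_add_neg, sub_eq_add_neg, LC.hom_add, LC.hom_neg, cw_hom, cw_hom, cw_hom, LC.hom_add, LC.hom_neg]

theorem cw_mul (h : T2pre G M P H p) (g g' : P) (l : LC M) : cw h (g * g') l = cw h g l + cw h g' l := by
  apply LC.ext
  intro x
  rw [LC.hom_add, cw_hom, cw_hom, cw_hom, ← map_mul]
  congr 1
  exact Subtype.ext (comm_mul_left h g.2 g'.2 x.2)

theorem smul_cw (h : T2pre G M P H p) (t : G) (g : P) {l : LC M} (hl : t • l = l) :
    t • cw h g l = cw h ⟨t * g * t⁻¹, hPn.conj_mem g g.2 t⟩ l := by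
  apply LC.ext
  intro x
  rw [LC.smul_hom, cw_hom, cw_hom]
  nth_rewrite 2 [← hl]
  rw [LC.smul_hom]
  congr 1
  apply Subtype.ext
  change ⁅(g : G), t⁻¹ * x * t⁆ = t⁻¹ * ⁅t * g * t⁻¹, (x : G)⁆ * t
  simp only [commutatorElement_def]
  group

variable {z : ℕ} (h : T2pre G M P H p) (hz : z.Prime) (hzp : z ≠ p) {Z : Sylow z H}
  (hZn : (Z : Subgroup H).Normal) (hVM : Triv (LC M) (Z : Subgroup H))

include hz hzp hVM in
theorem cw_mem (hG : SolZ H z) {g : P} (hg : (g : G) ∈ eG P Z) (l : LC M) :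
    cw h g l ∈ com (LC P) (Z : Subgroup H) := by
  apply mem_com_of h hz hzp hG
  intro c hc
  rw [cw_hom]
  have h1 : (⟨⁅(g : G), c⁆, comm_mem h g.2 hc.1⟩ : M) = 1 :=
    Subtype.ext (commutatorElement_eq_one_iff_mul_comm.2 (comm_of h hVM hg hc))
  exact (congrArg l.hom h1).trans (map_one _)

include hz hzp hVM in
theorem cw_eq_zero (hG : SolZ H z) (l : LC M) {g : P} (hg : (g : G) ∈ eG P Z) (hc : (g : G) ∈ cG P Z) :
    cw h g l = 0 := by
  apply eq_zero_of (sup_eq h hz hzp hG Z)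
  · intro x hx hxe
    rw [cw_hom]
    have h1 : (⟨⁅(g : G), x⁆, comm_mem h g.2 hx⟩ : M) = 1 :=
      Subtype.ext (commutatorElement_eq_one_iff_mul_comm.2 (comm_of h hVM hxe hc).symm)
    exact (congrArg l.hom h1).trans (map_one _)
  · intro x hx hxc
    rw [cw_hom]
    have h1 : (⟨⁅(g : G), x⁆, comm_mem h g.2 hx⟩ : M) = 1 :=
      Subtype.ext (commutatorElement_eq_one_iff_mul_comm.2 (comm_of h hVM hg hxc))
    exact (congrArg l.hom h1).trans (map_one _)

theorem finite_LC (N : Subgroup G) : Finite (LC N) := by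
  have : Finite (N →* ℂˣ) := inferInstance
  exact this

include h hz hzp hZn hVM in
/-- the order of `[W, Z]` -/
theorem card_lt (hG : SolZ H z) (hna : NA p z G) (hWP : ¬ Triv (LC P) (Z : Subgroup H)) :
    Nat.card (LC M) < Nat.card (com (LC P) (Z : Subgroup H)) := by
  classical
  haveI := finite_LC P
  haveI := finite_LC M
  obtain ⟨g, hg, hgc⟩ := exists_not_mem h hz hzp hVM hG hWP
  have hgP := eG_le Z hg
  let f : LC M → com (LC P) (Z : Subgroup H) := fun l => ⟨cw h ⟨g, hgP⟩ l, cw_mem h hz hzp hVM hG hg l⟩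
  have hf : Function.Injective f := by
    intro l l' hll
    have h1 : cw h ⟨g, hgP⟩ l = cw h ⟨g, hgP⟩ l' := congrArg Subtype.val hll
    have h2 : cw h ⟨g, hgP⟩ (l - l') = 0 := by rw [cw_sub, h1, sub_self]
    by_contra hne
    apply hgc
    apply star h hz hZn hG hzp hVM hna hgP (l := l - l') (sub_ne_zero.2 hne)
    intro x hx hm
    have h3 : (cw h ⟨g, hgP⟩ (l - l')).hom ⟨x, hx⟩ = 1 := by rw [h2]; rfl
    rw [cw_hom] at h3
    exact h3
  refine lt_of_le_of_ne (Nat.card_le_card_of_injective f hf) (fun hcard => ?_)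
  have hs : Function.Surjective f := ((Nat.bijective_iff_injective_and_card f).2 ⟨hf, hcard⟩).2
  apply hgc
  apply mem_cG_of_com h hz hzp hVM hgP hG
  intro w hw
  obtain ⟨l, hl⟩ := hs ⟨w, hw⟩
  have h1 : cw h ⟨g, hgP⟩ l = w := congrArg Subtype.val hl
  rw [← h1, cw_hom]
  have h2 : (⟨⁅g, g⁆, comm_mem h hgP hgP⟩ : M) = 1 := Subtype.ext (commutatorElement_self g)
  exact (congrArg l.hom h2).trans (map_one _)

include h hz hzp hZn hVM in
/-- `[E, E] = M` -/
theorem comm_eq (hG : SolZ H z) (hna : NA p z G) (hWP : ¬ Triv (LC P) (Z : Subgroup H)) :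
    ⁅eG P Z, eG P Z⁆ = M := by
  have hEn := normal_eG h hZn
  have h1 : ⁅eG P Z, eG P Z⁆ ≤ M := by
    rw [← h.comm]
    exact Subgroup.commutator_mono (eG_le Z) (eG_le Z)
  rcases h.minN.min _ inferInstance h1 with h2 | h2
  · exfalso
    obtain ⟨g, hg, hgc⟩ := exists_not_mem h hz hzp hVM hG hWP
    have hgP := eG_le Z hg
    obtain ⟨l, hl⟩ : ∃ l : LC M, l ≠ 0 := by
      by_contra hcon
      push Not at hcon
      apply h.minN.ne
      rw [eq_bot_iff]
      intro m hm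
      rw [Subgroup.mem_bot]
      apply sepM h hm
      intro l
      rw [hcon l]
      rfl
    apply hgc
    apply star h hz hZn hG hzp hVM hna hgP hl
    intro x hx hm
    have h3 : ⁅g, x⁆ = 1 := by
      obtain ⟨e, he, c, hc, rfl⟩ := exists_ec h hz hzp hZn hG hx
      rw [commutatorElement_eq_one_iff_mul_comm]
      have k1 : g * c = c * g := comm_of h hVM hg hc
      have k2 : g * e = e * g := by
        have h4 : ⁅g, e⁆ ∈ ⁅eG P Z, eG P Z⁆ := Subgroup.commutator_mem_commutator hg he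
        rw [h2, Subgroup.mem_bot] at h4
        exact commutatorElement_eq_one_iff_mul_comm.1 h4
      rw [← mul_assoc, k2, mul_assoc, k1, mul_assoc]
    have h4 : (⟨⁅g, x⁆, hm⟩ : M) = 1 := Subtype.ext h3
    exact (congrArg l.hom h4).trans (map_one _)
  · exact h2

end cw

section form

variable {z : ℕ} (h : T2pre G M P H p) (hz : z.Prime) (hzp : z ≠ p) {Z : Sylow z H}
  (hZn : (Z : Subgroup H).Normal) (hVM : Triv (LC M) (Z : Subgroup H))

include h hz hzp hZn hVM in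
/-- elements of `H` centralizing `M` and irreducible on `[W, Z]` -/
theorem pow_com (hG : SolZ H z) (hna : NA p z G) (hWP : ¬ Triv (LC P) (Z : Subgroup H)) {n : ℕ}
    (hn : Nat.card (com (LC P) (Z : Subgroup H)) = p ^ n) (g : H) (hg : ∀ v : LC M, g • v = v)
    (hirr : ∀ Y : AddSubgroup (LC P), Y ≤ com (LC P) (Z : Subgroup H) → (∀ y ∈ Y, g • y ∈ Y) →
      Y = ⊥ ∨ Y = com (LC P) (Z : Subgroup H)) :
    ∃ i < n, ∀ w ∈ com (LC P) (Z : Subgroup H), g ^ (p ^ i + 1) • w = w := by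
  classical
  haveI := finite_LC P
  haveI := finite_LC M
  have hEn := normal_eG h hZn
  have hS := sup_eq h hz hzp hG Z
  -- a nonzero character of `M`
  obtain ⟨l, hl⟩ : ∃ l : LC M, l ≠ 0 := by
    by_contra hcon
    push Not at hcon
    apply h.minN.ne
    rw [eq_bot_iff]
    intro m hm
    rw [Subgroup.mem_bot]
    apply sepM h hm
    intro l
    rw [hcon l]
    rfl
  set V : AddSubgroup (LC P) := com (LC P) (Z : Subgroup H) with hV
  have hsub : ∀ {x : G}, x ∈ eG P Z → x ∈ P := fun hx => eG_le Z hx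
  let ψ : eG P Z → LC P := fun e => cw h ⟨e, eG_le Z e.2⟩ l
  have hψV : ∀ e, ψ e ∈ V := fun e => cw_mem h hz hzp hVM hG e.2 l
  have hψm : ∀ e f, ψ (e * f) = ψ e + ψ f := fun e f => cw_mul h ⟨e, eG_le Z e.2⟩ ⟨f, eG_le Z f.2⟩ l
  have hψ1 : ψ 1 = 0 := by
    have := hψm 1 1
    rw [mul_one] at this
    exact left_eq_add.1 this
  have hψi : ∀ e, ψ e⁻¹ = - ψ e := by
    intro e
    rw [eq_neg_iff_add_eq_zero, ← hψm, inv_mul_cancel, hψ1]
  have hψC : ∀ e : eG P Z, ψ e = 0 ↔ (e : G) ∈ cG P Z := by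
    intro e
    constructor
    · intro h0
      apply star h hz hZn hG hzp hVM hna (eG_le Z e.2) hl
      intro x hx hm
      have h3 : (ψ e).hom ⟨x, hx⟩ = 1 := by rw [h0]; rfl
      exact h3
    · intro hc
      exact cw_eq_zero h hz hzp hVM hG l e.2 hc
  have hψs : ∀ (t : H), (∀ v : LC M, t • v = v) → ∀ e : eG P Z,
      t • ψ e = ψ ⟨(t : G) * e * (t : G)⁻¹, hEn.conj_mem e e.2 t⟩ := by
    intro t ht e
    exact smul_cw h (t : G) ⟨e, eG_le Z e.2⟩ (ht l)
  have hg' : ∀ v : LC M, g⁻¹ • v = v := by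
    intro v
    rw [inv_smul_eq_iff, hg]
  -- surjectivity
  let Y : AddSubgroup (LC P) :=
    { carrier := Set.range ψ
      zero_mem' := ⟨1, hψ1⟩
      add_mem' := by
        rintro _ _ ⟨e, rfl⟩ ⟨f, rfl⟩
        exact ⟨e * f, hψm e f⟩
      neg_mem' := by
        rintro _ ⟨e, rfl⟩
        exact ⟨e⁻¹, hψi e⟩ }
  have hYV : Y = V := by
    rcases hirr Y (by rintro _ ⟨e, rfl⟩; exact hψV e) (by
      rintro _ ⟨e, rfl⟩
      exact ⟨_, (hψs g hg e).symm⟩) with h1 | h1
    · exfalso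
      obtain ⟨e, he, hec⟩ := exists_not_mem h hz hzp hVM hG hWP
      apply hec
      have h2 : ψ ⟨e, he⟩ ∈ Y := ⟨_, rfl⟩
      rw [h1, AddSubgroup.mem_bot] at h2
      exact (hψC ⟨e, he⟩).1 h2
    · exact h1
  have hsurj : ∀ w : V, ∃ e : eG P Z, ψ e = w := by
    intro w
    have h1 : (w : LC P) ∈ Y := by rw [hYV]; exact w.2
    exact h1
  choose ε hε using hsurj
  -- well defined
  have hwd : ∀ e f : eG P Z, ψ e = ψ f → ∀ w ∈ V, w.hom ⟨e, hsub e.2⟩ = w.hom ⟨f, hsub f.2⟩ := by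
    intro e f hef w hw
    have h1 : ψ (e * f⁻¹) = 0 := by rw [hψm, hψi, hef, add_neg_cancel]
    have h2 := hom_com_eq_one hw ((hψC _).1 h1)
    have h3 : (⟨((e * f⁻¹ : eG P Z) : G), ((hψC _).1 h1).1⟩ : P) = ⟨e, hsub e.2⟩ * ⟨f, hsub f.2⟩⁻¹ := rfl
    rw [h3, map_mul, map_inv, mul_inv_eq_one] at h2
    exact h2
  let B : V →+ V →+ Additive ℂˣ := AddMonoidHom.mk' (fun w => AddMonoidHom.mk'
      (fun w' => Additive.ofMul ((w : LC P).hom ⟨ε w', hsub (ε w').2⟩)) (by
        intro a b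
        rw [← ofMul_mul, ← map_mul]
        congr 1
        exact hwd (ε (a + b)) (ε a * ε b) (by rw [hψm, hε, hε, hε]; rfl) w w.2)) (by
      intro a b
      ext w'
      rfl)
  have hB : ∀ w w' : V, B w w' = Additive.ofMul ((w : LC P).hom ⟨ε w', hsub (ε w').2⟩) := fun w w' => rfl
  let f : AddMonoid.End V := AddMonoidHom.mk' (fun w => ⟨g • (w : LC P), smul_mem_com hZn g w.2⟩) (by
    intro a b
    apply Subtype.ext
    exact smul_add g (a : LC P) b)
  have hf : ∀ w : V, ((f w : V) : LC P) = g • (w : LC P) := fun w => rfl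
  have hfk : ∀ (k : ℕ) (w : V), (((f ^ k) w : V) : LC P) = g ^ k • (w : LC P) := by
    intro k
    induction k with
    | zero =>
      intro w
      rw [pow_zero, pow_zero, one_smul]
      rfl
    | succ k ih =>
      intro w
      have h1 : (f ^ (k + 1)) w = f ((f ^ k) w) := by rw [pow_succ']; rfl
      rw [h1, hf, ih, pow_succ', mul_smul]
  have hn0 : 0 < n := by
    rcases Nat.eq_zero_or_pos n with rfl | h0
    · exfalso
      rw [pow_zero, Nat.card_eq_one_iff_unique] at hn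
      obtain ⟨e, he, hec⟩ := exists_not_mem h hz hzp hVM hG hWP
      apply hec
      rw [← hψC ⟨e, he⟩]
      have := hn.1
      have h2 : (⟨ψ ⟨e, he⟩, hψV _⟩ : V) = 0 := Subsingleton.elim _ _
      exact congrArg Subtype.val h2
    · exact h0
  obtain ⟨i, hi, hfi⟩ := Cfsg.Agent.H161.PalForm.pow_of_form h.prime hn0 hn f (by
      intro X hX
      rcases hirr (X.map V.subtype) (by rintro _ ⟨x, -, rfl⟩; exact x.2) (by
        rintro _ ⟨x, hx, rfl⟩
        exact ⟨f x, hX x hx, rfl⟩) with h1 | h1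
      · left
        exact (AddSubgroup.map_eq_bot_iff_of_injective _ V.subtype_injective).1 h1
      · right
        rw [eq_top_iff]
        intro x _
        have h2 : (x : LC P) ∈ X.map V.subtype := by rw [h1]; exact x.2
        obtain ⟨y, hy, hyx⟩ := h2
        have : y = x := Subtype.ext hyx
        rwa [← this]) B (by
      intro v w
      rw [hB, hB]
      congr 1
      rw [hf]
      change ((g : G) • (v : LC P)).hom _ = _
      rw [LC.smul_hom]
      have h1 : ψ ⟨(g : G)⁻¹ * ε (f w) * (g : G), by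
          have := hEn.conj_mem (ε (f w)) (ε (f w)).2 (g : G)⁻¹
          rwa [inv_inv] at this⟩ = ψ (ε w) := by
        have h2 := hψs g⁻¹ hg' (ε (f w))
        rw [hε (f w), hf, ← mul_smul, inv_mul_cancel, one_smul] at h2
        rw [hε w, h2]
        congr 1
        apply Subtype.ext
        change (g : G)⁻¹ * ε (f w) * (g : G) = ((g⁻¹ : H) : G) * ε (f w) * ((g⁻¹ : H) : G)⁻¹
        rw [Subgroup.coe_inv, inv_inv]
      exact hwd _ _ h1 v v.2) (by
      intro w hw
      apply Subtype.ext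
      apply eq_zero_of hS
      · intro x hx hxe
        have h1 := hwd ⟨x, hxe⟩ (ε ⟨ψ ⟨x, hxe⟩, hψV _⟩) (hε ⟨ψ ⟨x, hxe⟩, hψV _⟩).symm w w.2
        have h2 := hw ⟨ψ ⟨x, hxe⟩, hψV _⟩
        rw [hB] at h2
        rw [h1]
        exact h2
      · intro x hx hxc
        exact hom_com_eq_one w.2 hxc) (by
      intro w hw
      apply Subtype.ext
      rw [← hε w]
      change ψ (ε w) = 0
      rw [hψC]
      apply mem_cG_of_com h hz hzp hVM (hsub (ε w).2) hG
      intro v hv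
      exact hw ⟨v, hv⟩)
  refine ⟨i, hi, fun w hw => ?_⟩
  have h1 := hfk (p ^ i + 1) ⟨w, hw⟩
  rw [hfi] at h1
  exact h1.symm

end form

/-- **The fields of `T2` on a normal Sylow subgroup trivial on `M`.** -/
theorem fields (h : T2pre G M P H p) {z : ℕ} (hz : z.Prime) (hzp : z ≠ p) (Z : Sylow z H) (hZn : (Z : Subgroup H).Normal)
    (hVM : Triv (LC M) (Z : Subgroup H)) (hWP : ¬ Triv (LC P) (Z : Subgroup H)) (hna : NA p z G) :
    (∀ g : H, (∀ w ∈ com (LC P) (Z : Subgroup H), g • w = w) → ∀ v : LC M, g • v = v) ∧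
      Nat.card (LC M) < Nat.card (com (LC P) (Z : Subgroup H)) := by
  have hf : Fact z.Prime := ⟨hz⟩
  have hG : SolZ H z := fun Z => by
    have h1 : IsPGroup z (zG Z) := Z.isPGroup'.map _
    have h2 := h1.isNilpotent
    infer_instance
  exact ⟨ker_of h hz hzp hZn hVM hG (comm_eq h hz hzp hZn hVM hG hna hWP), card_lt h hz hzp hZn hVM hG hna hWP⟩

end Cfsg.Agent.H672.Four.T2b
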