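import Cfsg.Agent.H672.Four.Mod
import Cfsg.Agent.H748.PalfyFinal
import Cfsg.Agent.H988.DG.Frame
import Cfsg.Agent.H55.Palfy.Main
import Cfsg.Agent.H672.Four.T2b

/-!
# S4773: the case of a nontrivial solvable radical, the group-theoretic part (helper672)
-/

set_option autoImplicit false
set_option linter.unusedSectionVars false

namespace Cfsg.Agent.H672.Four

open Cfsg Subgroup Cfsg.Agent.H670.Palfy Cfsg.Agent.H401.DG4 Cfsg.Agent.H415.Palfy Cfsg.Agent.H459.Rad
open scoped commutatorElement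

universe u v

theorem rho_of_im {X : Type u} [Group X] {p : ℕ} (h : H33.IM p X) : Rho p X := by
  obtain ⟨χ, hχ⟩ := h
  exact ⟨_, ⟨χ, rfl⟩, hχ⟩

theorem exists_ctx {H Q : Type u} {V : Type v} [Group H] [Group Q] [AddCommGroup V] [DistribMulAction H V]
    [Finite H] {f : H →* Q} {l n : ℕ} (fs : Function.Surjective f) (fk : Group.IsSolvable f.ker) (nos : NoSol Q)
    (hl : l.Prime) (hn : 0 < n) (hV : Nat.card V = l ^ n) (irr : Irr H V) :
    ∃ (H' : Type u) (_ : Group H') (_ : Finite H') (_ : DistribMulAction H' V) (ρ : H →* H'), Ctx (V := V) ρ f l n := by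
  let act : H ⧸ Ker H V →* AddMonoid.End V := QuotientGroup.lift (Ker H V) (DistribMulAction.toAddMonoidEnd H V) (by
    intro k hk
    rw [MonoidHom.mem_ker]
    ext v
    exact hk v)
  let d : DistribMulAction (H ⧸ Ker H V) V := DistribMulAction.compHom V act
  have hc : ∀ (g : H) (v : V), (QuotientGroup.mk' (Ker H V) g : H ⧸ Ker H V) • v = g • v := fun g v => rfl
  refine ⟨H ⧸ Ker H V, inferInstance, Quotient.finite _, d, QuotientGroup.mk' (Ker H V),
    QuotientGroup.mk'_surjective _, hc, ?_, fs, fk, nos, hl, hn, hV, irr⟩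
  intro y hy
  obtain ⟨g, rfl⟩ := QuotientGroup.mk'_surjective _ y
  exact (QuotientGroup.eq_one_iff g).2 fun v => by
    rw [← hc]
    exact hy v

section

variable {G : Type u} [Group G] [Finite G]

/-- A normal abelian Sylow subgroup of a normal subgroup. -/
theorem sylow_sub (hGIM : GIM.{u}) (N : Subgroup G) [hN : N.Normal] {a : ℕ} [ha : Fact a.Prime] (h : ¬ H33.IM a N) :
    ∃ S : Subgroup G, S.Normal ∧ S ≤ N ∧ IsPGroup a S ∧ (∀ x ∈ S, ∀ y ∈ S, x * y = y * x) ∧ ¬ a ∣ S.relIndex N ∧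
      ∀ x ∈ N, ∀ k : ℕ, x ^ a ^ k = 1 → x ∈ S := by
  obtain ⟨S⟩ : Nonempty (Sylow a N) := inferInstance
  obtain ⟨h1, h2⟩ := hGIM N a h S
  have hch : (S : Subgroup N).Characteristic := Sylow.characteristic_of_normal S h1
  have hn : ((S : Subgroup N).map N.subtype).Normal := ConjAct.normal_of_characteristic_of_normal
  refine ⟨_, hn, Subgroup.map_subtype_le _, S.isPGroup'.map _, ?_, ?_, ?_⟩
  · rintro _ ⟨x, hx, rfl⟩ _ ⟨y, hy, rfl⟩
    rw [← map_mul, ← map_mul, h2 x hx y hy]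
  · rw [Subgroup.relIndex, Subgroup.subgroupOf, Subgroup.comap_map_eq_self_of_injective N.subtype_injective]
    exact S.not_dvd_index
  · intro x hx k hk
    have h3 : IsPGroup a (zpowers (⟨x, hx⟩ : N)) := by
      rintro ⟨y, i, rfl⟩
      refine ⟨k, ?_⟩
      apply Subtype.ext
      change ((⟨x, hx⟩ : N) ^ i) ^ a ^ k = 1
      rw [← zpow_natCast, ← zpow_mul, mul_comm, zpow_mul, zpow_natCast]
      have h4 : (⟨x, hx⟩ : N) ^ a ^ k = 1 := Subtype.ext hk
      rw [h4, one_zpow]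
    obtain ⟨S', hS'⟩ := h3.exists_le_sylow
    have : Subsingleton (Sylow a N) := (Sylow.unique_of_normal S h1).instSubsingleton
    rw [Subsingleton.elim S' S] at hS'
    exact ⟨⟨x, hx⟩, hS' (mem_zpowers _), rfl⟩

/-- A prime of `ρ(G)` outside `ρ(N)` divides `|G / N|`. -/
theorem dvd_quot (hGIM : GIM.{u}) (N : Subgroup G) [hN : N.Normal] {a : ℕ} [ha : Fact a.Prime] (hG : H33.IM a G)
    (h : ¬ H33.IM a N) : a ∣ Nat.card (G ⧸ N) := by
  by_contra hd
  obtain ⟨S, hSn, hSN, -, hSab, hSi, -⟩ := sylow_sub hGIM N h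
  refine rho_abelian (rho_of_im hG) S hSab fun h1 => ?_
  rw [← Subgroup.relIndex_mul_index hSN, ha.out.dvd_mul] at h1
  rcases h1 with h1 | h1
  · exact hSi h1
  · exact hd h1

/-- The `t`-elements of `K` centralise `M`. -/
theorem comm_of_elem (hGIM : GIM.{u}) (K M : Subgroup G) [hK : K.Normal] [hM : M.Normal] (hmin : MinN M)
    {t : ℕ} [ht : Fact t.Prime] (h : ¬ H33.IM t K) {x : G} (hx : x ∈ K) {k : ℕ} (hk : x ^ t ^ k = 1) :
    ∀ m ∈ M, x * m = m * x := by
  obtain ⟨S, hSn, hSN, -, hSab, -, hel⟩ := sylow_sub hGIM K h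
  have hxS := hel x hx k hk
  intro m hm
  rcases hmin.min (M ⊓ S) inferInstance inf_le_left with h1 | h1
  · exact (Subgroup.commute_of_normal_of_disjoint S M hSn hM (by rw [disjoint_iff, inf_comm]; exact h1) x m hxS hm).eq
  · exact hSab x hxS m ((inf_eq_left.1 h1) hm)

theorem smul_of_comm {M : Subgroup G} [hM : M.Normal] {x : G} (h : ∀ m ∈ M, x * m = m * x) (v : LC M) : x • v = v := by
  apply LC.ext
  intro m
  rw [LC.smul_hom]
  congr 1
  apply Subtype.ext
  change x⁻¹ * (m : G) * x = m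
  rw [mul_assoc, ← h m m.2, inv_mul_cancel_left]

theorem exists_min (L : Subgroup G) (hL : L.Normal) (hL1 : L ≠ ⊥) : ∃ M : Subgroup G, MinN M ∧ M ≤ L := by
  obtain ⟨N, ⟨hN, hN1, hNL⟩, hmin⟩ := Set.exists_min_image
    {N : Subgroup G | N.Normal ∧ N ≠ ⊥ ∧ N ≤ L} (fun N => Nat.card N) (Set.toFinite _) ⟨L, hL, hL1, le_rfl⟩
  refine ⟨N, ⟨hN1, hN, fun M hM hMN => ?_⟩, hNL⟩
  by_cases hM1 : M = ⊥
  · exact Or.inl hM1
  · exact Or.inr (eq_of_le_of_card_ge hMN (hmin M ⟨hM, hM1, hMN.trans hNL⟩))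

theorem exists_max (T : Subgroup G) (hT : T.Normal) (hT1 : T ≠ ⊤) : ∃ K : Subgroup G, ∃ _ : K.Normal, K ≠ ⊤ ∧ T ≤ K ∧
    IsSimpleGroup (G ⧸ K) := by
  have hfin : Set.Finite {L : Subgroup G | L.Normal ∧ L ≠ ⊤ ∧ T ≤ L} := Set.toFinite _
  obtain ⟨K, hK⟩ := hfin.exists_maximal ⟨T, hT, hT1, le_rfl⟩
  have hKn : K.Normal := hK.prop.1
  refine ⟨K, hKn, hK.prop.2.1, hK.prop.2.2, ?_⟩
  have hnt : Nontrivial (G ⧸ K) := by
    by_contra h
    rw [not_nontrivial_iff_subsingleton] at h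
    exact hK.prop.2.1 (QuotientGroup.subgroup_eq_top_of_subsingleton K h)
  refine ⟨fun L hL => ?_⟩
  by_cases h : L.comap (QuotientGroup.mk' K) = ⊤
  · right
    rw [eq_top_iff]
    intro x _
    obtain ⟨n, rfl⟩ := QuotientGroup.mk'_surjective K x
    have h1 : n ∈ L.comap (QuotientGroup.mk' K) := by rw [h]; trivial
    exact h1
  · left
    have h1 : K ≤ L.comap (QuotientGroup.mk' K) := by
      intro k hk
      have h2 : QuotientGroup.mk' K k = 1 := (QuotientGroup.eq_one_iff k).2 hk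
      rw [Subgroup.mem_comap, h2]
      exact L.one_mem
    have h2 : L.comap (QuotientGroup.mk' K) ≤ K := hK.le_of_ge ⟨hL.comap _, h, hK.prop.2.2.trans h1⟩ h1
    rw [eq_bot_iff]
    intro x hx
    obtain ⟨n, rfl⟩ := QuotientGroup.mk'_surjective K x
    exact (QuotientGroup.eq_one_iff n).2 (h2 hx)

theorem nosol_quot : NoSol (G ⧸ solvableRadical G) := by
  intro M hM hs
  have h1 := le_rad hM hs
  rw [rad_quotient] at h1
  exact eq_bot_iff.2 h1

theorem im_of_le {N K : Subgroup G} [hN : N.Normal] (h : N ≤ K) {b : ℕ} (hb : H33.IM b N) : H33.IM b K := by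
  have e : N.subgroupOf K ≃* N := subgroupOfEquivOfLe h
  exact ((H33.IM.congr e).2 hb).of_normal _

/-- **No abelian Hall subgroup.** -/
theorem hall_step (hL2B : FactL2B.{u}) {H Q : Type u} {V : Type v} [Group H] [Group Q] [AddCommGroup V]
    [DistribMulAction H V] [Finite H] [Finite Q] [Nontrivial V] {f : H →* Q} (fs : Function.Surjective f)
    (hQ : IsSimpleGroup Q) (hQna : ¬ IsMulCommutative Q) (s : Finset ℕ) (hcard : s.card = 3)
    (hs : ∀ p ∈ s, p.Prime ∧ p ∣ Nat.card Q) (hna : ∀ p ∈ s, ∀ q ∈ s, ¬ Cfsg.Agent.H671.H5.Adj p q Q)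
    (huf : ∀ p ∈ s, UF p H (⊥ : AddSubgroup V))
    (hab : ∀ p ∈ s, ∀ P : Sylow p H, ∀ x ∈ (P : Subgroup H), ∀ y ∈ (P : Subgroup H), x * y = y * x) : False := by
  obtain ⟨v, hv⟩ := exists_ne (0 : V)
  have hv' : v ∉ (⊥ : AddSubgroup V) := hv
  -- the elements of the Sylow subgroups fixing `v`
  let S : Set H := {x | ∃ p ∈ s, (∃ k : ℕ, x ^ p ^ k = 1) ∧ x • v = v}
  have hcomm : ∀ x ∈ S, ∀ y ∈ S, x * y = y * x := by
    rintro x ⟨p, hp, ⟨k, hk⟩, hxv⟩ y ⟨q, hq, ⟨j, hj⟩, hyv⟩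
    have hpf : Fact p.Prime := ⟨(hs p hp).1⟩
    have hqf : Fact q.Prime := ⟨(hs q hq).1⟩
    have hzp : ∀ (r : ℕ) (z : H) (i : ℕ), z ^ r ^ i = 1 → IsPGroup r (zpowers z) := by
      intro r z i hz
      rintro ⟨_, e, rfl⟩
      refine ⟨i, Subtype.ext ?_⟩
      change (z ^ e) ^ r ^ i = 1
      rw [← zpow_natCast, ← zpow_mul, mul_comm, zpow_mul, zpow_natCast, hz, one_zpow]
    have hfx : ∀ z : H, z • v = v → ∀ w ∈ zpowers z, w • v = v := by
      intro z hz w hw
      have h1 : z ∈ MulAction.stabilizer H v := hz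
      exact (zpowers_le.2 h1) hw
    obtain ⟨P, hP, hPu⟩ := huf p hp v hv'
    obtain ⟨R, hR, hRu⟩ := huf q hq v hv'
    have hxP : x ∈ (P : Subgroup H) := le_of_fix hP hPu (hzp p x k hk) (hfx x hxv) (mem_zpowers x)
    have hyR : y ∈ (R : Subgroup H) := le_of_fix hR hRu (hzp q y j hj) (hfx y hyv) (mem_zpowers y)
    by_cases hpq : p = q
    · subst hpq
      rw [hRu P hP] at hxP
      exact hab p hp R x hxP y hyR
    · -- `x y x⁻¹ ∈ R`, `y x⁻¹ y⁻¹ ∈ P`
      have h1 : x * y * x⁻¹ ∈ (R : Subgroup H) := by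
        refine le_of_fix hR hRu (hzp q (x * y * x⁻¹) j (by rw [conj_pow, hj]; group))
          (hfx _ ?_) (mem_zpowers _)
        rw [mul_smul, mul_smul, (inv_smul_eq_iff.2 hxv.symm), hyv, hxv]
      have h2 : y * x⁻¹ * y⁻¹ ∈ (P : Subgroup H) := by
        refine le_of_fix hP hPu (hzp p (y * x⁻¹ * y⁻¹) k (by rw [conj_pow, inv_pow, hk]; group))
          (hfx _ ?_) (mem_zpowers _)
        rw [mul_smul, mul_smul, (inv_smul_eq_iff.2 hyv.symm), (inv_smul_eq_iff.2 hxv.symm), hyv]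
      have h3 : x * y * x⁻¹ * y⁻¹ ∈ (P : Subgroup H) ⊓ R := by
        refine mem_inf.2 ⟨?_, mul_mem h1 (inv_mem hyR)⟩
        have e : x * y * x⁻¹ * y⁻¹ = x * (y * x⁻¹ * y⁻¹) := by group
        rw [e]
        exact mul_mem hxP h2
      have h4 : (P : Subgroup H) ⊓ R = ⊥ := (P.isPGroup'.disjoint_of_ne p q hpq _ _ R.isPGroup').eq_bot
      rw [h4, mem_bot] at h3
      have h5 : x * y * x⁻¹ = y := mul_inv_eq_one.1 h3
      exact mul_inv_eq_iff_eq_mul.1 h5
  set A : Subgroup H := closure S with hA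
  have hAcomm : ∀ x ∈ A, ∀ y ∈ A, x * y = y * x := by
    intro x hx y hy
    have := Subgroup.closure_induction₂ (p := fun x y _ _ => x * y = y * x) (k := S) (fun x y hx hy => hcomm x hx y hy)
      (fun y _ => by rw [one_mul, mul_one]) (fun y _ => by rw [one_mul, mul_one])
      (fun x y z _ _ _ h1 h2 => by rw [mul_assoc, h2, ← mul_assoc, h1, mul_assoc])
      (fun x y z _ _ _ h1 h2 => by rw [← mul_assoc, h1, mul_assoc, h2, ← mul_assoc])
      (fun x y _ _ h => by
        have h1 : Commute x y := h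
        exact h1.inv_left.eq)
      (fun x y _ _ h => by
        have h1 : Commute x y := h
        exact h1.inv_right.eq) hx hy
    exact this
  refine hL2B Q hQna s hcard hs hna (A.map f) ?_ ?_
  · rintro _ ⟨x, hx, rfl⟩ _ ⟨y, hy, rfl⟩
    rw [← map_mul, ← map_mul, hAcomm x hx y hy]
  · intro p hp hd
    have hpf : Fact p.Prime := ⟨(hs p hp).1⟩
    obtain ⟨P, hP, -⟩ := huf p hp v hv'
    have hPA : (P : Subgroup H) ≤ A := by
      intro x hx
      apply Subgroup.subset_closure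
      obtain ⟨k, hk⟩ := P.isPGroup' ⟨x, hx⟩
      exact ⟨p, hp, ⟨k, congrArg Subtype.val hk⟩, hP x hx⟩
    exact P.not_dvd_index ((hd.trans (Subgroup.index_map_dvd A fs)).trans (Subgroup.index_dvd_of_le hPA))

end

theorem Ctx.card_sylow_ne_one {H H' Q : Type u} {V : Type v} [Group H] [Group H'] [Group Q] [AddCommGroup V]
    [DistribMulAction H V] [DistribMulAction H' V] [Finite H] [Finite H'] [Finite Q] [Finite V] {ρ : H →* H'}
    {f : H →* Q} {l n : ℕ} (c : Ctx (V := V) ρ f l n) {z : ℕ} [hz : Fact z.Prime]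
    (hu : UF z H (⊥ : AddSubgroup V)) (hd : z ∣ Nat.card Q) : Nat.card (Sylow z H) ≠ 1 := by
  obtain ⟨Z⟩ : Nonempty (Sylow z H) := inferInstance
  refine hu.card_ne_one (Q := Z) fun ht => ?_
  have h1 := (Z.mapSurjective c.rs).dvd_card_of_dvd_card (c.dvd_of_dvd hu hd)
  have h2 : ((Z.mapSurjective c.rs : Sylow z H') : Subgroup H') = ⊥ := by
    rw [Sylow.coe_mapSurjective, eq_bot_iff]
    rintro _ ⟨x, hx, rfl⟩
    rw [Subgroup.mem_bot, c.rho_eq_one]
    exact ht x hx
  rw [h2, Subgroup.card_bot] at h1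
  exact hz.out.one_lt.ne' (Nat.dvd_one.1 h1)

theorem core (hK : H566.KnownAll.{u}) (hGIM : GIM.{u}) (hA : FactAll.{u}) (hF : FactFour.{u}) (hG : FactG.{u})
    (hRt : FactRoot.{u, u}) (h26 : FactTwoSix.{u, u}) (h26' : FactTwoSix'.{u, u}) (hL2B : FactL2B.{u})
    {G : Type u} [Group G] [Finite G] (s : Finset ℕ) (hcard : s.card = 4) (hs : ∀ p ∈ s, p.Prime ∧ H33.IM p G)
    (hna : ∀ p ∈ s, ∀ q ∈ s, p ≠ q → ¬ H33.IM (p * q) G)
    (ih1 : ∀ K : Subgroup G, K.Normal → K ≠ ⊤ → ∃ t ∈ s, ¬ H33.IM t K)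
    (M : Subgroup G) [hM : M.Normal] (hmin : MinN M) {b : ℕ} (hb : b ∈ s)
    (hbN : H33.IM b (solvableRadical G)) {a a' : ℕ} (ha : a ∈ s) (ha' : a' ∈ s) (haa' : a ≠ a')
    (haN : ¬ H33.IM a (solvableRadical G)) (haN' : ¬ H33.IM a' (solvableRadical G))
    (H : Subgroup G) (hH : solvableRadical G ⊔ H = ⊤) {l n : ℕ} (hl : l.Prime) (hn : 0 < n)
    (hV : Nat.card (LC M) = l ^ n) (irr : Irr H (LC M)) (cfg : Cfg (Cfsg.charDegrees G) H (LC M) b)
    (hnt : ∀ z ∈ s, z ≠ b → ∀ Z : Sylow z H, (Z : Subgroup H).Normal →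
      (∀ x ∈ (Z : Subgroup H), ∀ y ∈ (Z : Subgroup H), x * y = y * x) → Triv (LC M) (Z : Subgroup H) →
      ∀ a0 ∈ s, a0 ≠ b → a0 ≠ z → UF a0 H (⊥ : AddSubgroup (LC M)) → Nat.card (Sylow a0 H) ≠ 1 → False) :
    False := by
  have hab : a ≠ b := by rintro rfl; exact haN hbN
  have hab' : a' ≠ b := by rintro rfl; exact haN' hbN
  set N := solvableRadical G with hN
  set f : H →* G ⧸ N := (QuotientGroup.mk' N).comp H.subtype with hf
  have fs : Function.Surjective f := by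
    intro q
    obtain ⟨g, rfl⟩ := QuotientGroup.mk'_surjective N q
    have hg : g ∈ N ⊔ H := by rw [hH]; trivial
    obtain ⟨x, hx, k, hk, rfl⟩ := Subgroup.mem_sup_of_normal_left.1 hg
    refine ⟨⟨k, hk⟩, ?_⟩
    change (QuotientGroup.mk' N) k = (QuotientGroup.mk' N) (x * k)
    rw [map_mul]
    have h1 : (QuotientGroup.mk' N) x = 1 := (QuotientGroup.eq_one_iff x).2 hx
    rw [h1, one_mul]
  have fk : Group.IsSolvable f.ker := by
    let φ : f.ker →* N :=
      { toFun := fun x => ⟨((x : H) : G), (QuotientGroup.eq_one_iff _).1 x.2⟩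
        map_one' := rfl
        map_mul' := fun _ _ => rfl }
    have h1 : Group.IsSolvable N := rad_solvable G
    refine Group.isSolvable_of_isSolvable_injective (f := φ) ?_
    intro x y hxy
    have h2 : (((φ x : N) : G)) = ((φ y : N) : G) := by rw [hxy]
    exact Subtype.ext (Subtype.ext h2)
  obtain ⟨H', _, _, _, ρ, c⟩ := exists_ctx fs fk nosol_quot hl hn hV irr
  have hVf : Finite (LC M) := Nat.finite_of_card_ne_zero (by rw [hV]; exact pow_ne_zero _ hl.ne_zero)
  have hVn := c.nontrivial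
  have hD : ∀ p ∈ s, p ≠ b → ∀ e ∈ Cfsg.charDegrees G, b ∣ e → p ∣ e → False := by
    rintro p hp hpb _ ⟨χ, rfl⟩ h1 h2
    refine hna b hb p hp hpb.symm ⟨χ, ?_⟩
    exact Nat.Coprime.mul_dvd_of_dvd_of_dvd ((Nat.coprime_primes (hs b hb).1 (hs p hp).1).2 hpb.symm) h1 h2
  have huf : ∀ p ∈ s, p ≠ b → UF p H (⊥ : AddSubgroup (LC M)) := by
    intro p hp hpb
    have : Fact p.Prime := ⟨(hs p hp).1⟩
    exact guf_of_cfg hGIM cfg (hD p hp hpb)
  have hcm : ∀ p ∈ s, p ≠ b → ∀ P : Sylow p H, ∀ x ∈ (P : Subgroup H), ∀ y ∈ (P : Subgroup H), x * y = y * x := by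
    intro p hp hpb P
    have : Fact p.Prime := ⟨(hs p hp).1⟩
    exact gcomm_of_cfg hGIM cfg (hD p hp hpb) hVn P
  have haf : Fact a.Prime := ⟨(hs a ha).1⟩
  have haf' : Fact a'.Prime := ⟨(hs a' ha').1⟩
  have haQ := dvd_quot hGIM N (hs a ha).2 haN
  have haQ' := dvd_quot hGIM N (hs a' ha').2 haN'
  obtain ⟨T, hTn, hTs, hTna, hor, -, -⟩ := qa hGIM hA hF (G := G ⧸ N) nosol_quot (hs a ha).1 (hs a' ha').1 haa' haQ haQ'
    (fun h => hna a ha a' ha' haa' (h.of_quotient N))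
  obtain ⟨α, hα, hαb, hαT⟩ : ∃ α ∈ s, α ≠ b ∧ α ∣ Nat.card T := by
    rcases hor with h | h
    · exact ⟨a, ha, hab, h⟩
    · exact ⟨a', ha', hab', h⟩
  obtain ⟨α0, hα0, hα0b, hα0l, hα0Q⟩ : ∃ α0 ∈ s, α0 ≠ b ∧ α0 ≠ l ∧ α0 ∣ Nat.card (G ⧸ N) := by
    by_cases h : a = l
    · exact ⟨a', ha', hab', fun h' => haa' (h.trans h'.symm), haQ'⟩
    · exact ⟨a, ha, hab, h, haQ⟩
  have hαf : Fact α.Prime := ⟨(hs α hα).1⟩
  have hα0f : Fact α0.Prime := ⟨(hs α0 hα0).1⟩
  have hαQ : α ∣ Nat.card (G ⧸ N) := hαT.trans (Subgroup.card_subgroup_dvd_card _)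
  -- all primes of `s`, different from `b`, divide `|G / N|`
  have step1 : ∀ z ∈ s, z ≠ b → z ∣ Nat.card (G ⧸ N) := by
    intro z hz hzb
    by_contra hzQ
    have hzf : Fact z.Prime := ⟨(hs z hz).1⟩
    obtain ⟨Z⟩ : Nonempty (Sylow z H) := inferInstance
    have ht := c.zclaim h26' (huf α hα hαb) T hTs hTna hαT (huf α0 hα0 hα0b) hα0l hα0Q (huf z hz hzb) hzQ Z
    have hZn : (Z : Subgroup H).Normal := (huf z hz hzb).normal_of_triv (by
      obtain ⟨v, hv⟩ := exists_ne (0 : LC M)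
      intro h1
      exact hv ((h1 ▸ AddSubgroup.mem_top v : v ∈ (⊥ : AddSubgroup (LC M))))) ht
    refine hnt z hz hzb Z hZn (hcm z hz hzb Z) ht α hα hαb ?_ (huf α hα hαb)
      (c.card_sylow_ne_one (huf α hα hαb) hαQ)
    rintro rfl
    exact hzQ hαQ
  by_cases hT : T = ⊤
  · subst hT
    have hQ : IsSimpleGroup (G ⧸ N) := (Subgroup.topEquiv (G := G ⧸ N)).symm.isSimpleGroup
    have hQna : ¬ IsMulCommutative (G ⧸ N) := by
      intro h
      apply hTna
      exact ⟨⟨fun x y => Subtype.ext (h.is_comm.comm _ _)⟩⟩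
    refine hall_step (V := LC M) hL2B fs hQ hQna (s.erase b) (by rw [Finset.card_erase_of_mem hb, hcard]) ?_ ?_ ?_ ?_
    · intro p hp
      rw [Finset.mem_erase] at hp
      exact ⟨(hs p hp.2).1, step1 p hp.2 hp.1⟩
    · intro p hp q hq hadj
      obtain ⟨h1, -, -, h2⟩ := H988.DG.adj_iff.1 hadj
      exact hna p (Finset.mem_of_mem_erase hp) q (Finset.mem_of_mem_erase hq) h1 (h2.of_quotient N)
    · intro p hp
      rw [Finset.mem_erase] at hp
      exact huf p hp.2 hp.1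
    · intro p hp
      rw [Finset.mem_erase] at hp
      exact hcm p hp.2 hp.1
  · obtain ⟨K, hKn, hKt, hTK, hKs⟩ := exists_max T hTn hT
    have hKc : (K.comap (QuotientGroup.mk' N)).Normal := hKn.comap _
    obtain ⟨t, ht, htK⟩ := ih1 (K.comap (QuotientGroup.mk' N)) hKc (by
      intro h
      apply hKt
      rw [← Subgroup.map_comap_eq_self_of_surjective (QuotientGroup.mk'_surjective N) K, h,
        Subgroup.map_top_of_surjective _ (QuotientGroup.mk'_surjective N)])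
    have hNK : N ≤ K.comap (QuotientGroup.mk' N) := by
      intro x hx
      rw [Subgroup.mem_comap]
      have h1 : (QuotientGroup.mk' N) x = 1 := (QuotientGroup.eq_one_iff x).2 hx
      rw [h1]
      exact one_mem _
    have htb : t ≠ b := by
      rintro rfl
      exact htK (im_of_le hNK hbN)
    have htf : Fact t.Prime := ⟨(hs t ht).1⟩
    refine c.b2 hK hG hRt h26 (huf α hα hαb) T hTs hTna hαT (huf α0 hα0 hα0b) hα0l hα0Q K hKs hTK (huf t ht htb)
      (step1 t ht htb) ?_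
    rintro x hx ⟨k, hk⟩ v
    have h1 := comm_of_elem hGIM (K.comap (QuotientGroup.mk' N)) M hmin htK (x := (x : G)) hx (k := k)
      (by rw [← Subgroup.coe_pow, hk, Subgroup.coe_one])
    exact smul_of_comm h1 v

/-- **The case of a nontrivial solvable radical.** -/
theorem caseB (hK : H566.KnownAll.{u}) (hGIM : GIM.{u}) (hA : FactAll.{u}) (hF : FactFour.{u}) (hG : FactG.{u})
    (hRt : FactRoot.{u, u}) (h26 : FactTwoSix.{u, u}) (h26' : FactTwoSix'.{u, u}) (hL2B : FactL2B.{u})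
    {G : Type u} [Group G] [Finite G] (s : Finset ℕ) (hcard : s.card = 4) (hs : ∀ p ∈ s, p.Prime ∧ H33.IM p G)
    (hna : ∀ p ∈ s, ∀ q ∈ s, p ≠ q → ¬ H33.IM (p * q) G)
    (ih1 : ∀ K : Subgroup G, K.Normal → K ≠ ⊤ → ∃ t ∈ s, ¬ H33.IM t K)
    (ih2 : ∀ (M : Subgroup G) [M.Normal], M ≠ ⊥ → ∃ t ∈ s, ¬ H33.IM t (G ⧸ M)) (hN : solvableRadical G ≠ ⊥) :
    False := by
  classical
  have hNn : (solvableRadical G).Normal := rad_normal G
  have hNs : Group.IsSolvable (solvableRadical G) := rad_solvable G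
  obtain ⟨M, hmin, hMN⟩ := exists_min (solvableRadical G) hNn hN
  have hM : M.Normal := hmin.nrm
  have hMs : Group.IsSolvable M := Group.isSolvable_of_isSolvable_injective (Subgroup.inclusion_injective hMN)
  have hab : ∀ a ∈ M, ∀ b ∈ M, a * b = b * a := by
    have hD : (⁅M, M⁆ : Subgroup G).Normal := inferInstance
    rcases hmin.min _ hD (Subgroup.commutator_le_left M M) with e1 | e1
    · intro a ha b hb
      have e2 : ⁅a, b⁆ ∈ (⊥ : Subgroup G) := by
        rw [← e1]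
        exact Subgroup.commutator_mem_commutator ha hb
      rw [Subgroup.mem_bot, commutatorElement_eq_one_iff_mul_comm] at e2
      exact e2
    · exfalso
      have hnt : Nontrivial M := (Subgroup.nontrivial_iff_ne_bot M).2 hmin.ne
      have e2 := Group.IsSolvable.commutator_lt_top_of_nontrivial M
      apply e2.ne
      apply Subgroup.map_injective M.subtype_injective
      rw [Subgroup.map_subtype_commutator, e1, ← MonoidHom.range_eq_map, Subgroup.range_subtype]
  obtain ⟨b, hb, hbM⟩ := ih2 M hmin.ne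
  have hbf : Fact b.Prime := ⟨(hs b hb).1⟩
  -- `b ∈ ρ(N)`
  have hbN : H33.IM b (solvableRadical G) := by
    by_contra hcon
    obtain ⟨P⟩ : Nonempty (Sylow b G) := inferInstance
    obtain ⟨h1, -⟩ := hGIM (G ⧸ M) b hbM (P.mapSurjective (QuotientGroup.mk'_surjective M))
    rw [Sylow.coe_mapSurjective] at h1
    have hPM : ((P : Subgroup G) ⊔ M).Normal := by
      have e1 : ((P : Subgroup G).map (QuotientGroup.mk' M)).comap (QuotientGroup.mk' M) = (P : Subgroup G) ⊔ M := by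
        rw [Subgroup.comap_map_eq, QuotientGroup.ker_mk']
      rw [← e1]
      exact h1.comap _
    have hPMs : Group.IsSolvable ↥((P : Subgroup G) ⊔ M) := by
      have hPs : Group.IsSolvable (P : Subgroup G) := by
        have := P.isPGroup'.isNilpotent
        infer_instance
      have hMn' : (M.subgroupOf ((P : Subgroup G) ⊔ M)).Normal := inferInstance
      refine isSolvable_of_quotient (M.subgroupOf ((P : Subgroup G) ⊔ M)) ?_ ?_
      · exact Group.isSolvable_of_isSolvable_injective (f := (subgroupOfEquivOfLe (le_sup_right : M ≤ (P : Subgroup G) ⊔ M)).toMonoidHom)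
          (subgroupOfEquivOfLe _).injective
      · let g : (P : Subgroup G) →* ↥((P : Subgroup G) ⊔ M) ⧸ M.subgroupOf ((P : Subgroup G) ⊔ M) :=
          (QuotientGroup.mk' _).comp (Subgroup.inclusion le_sup_left)
        have hg : Function.Surjective g := by
          intro q
          obtain ⟨⟨x, hx⟩, rfl⟩ := QuotientGroup.mk'_surjective _ q
          obtain ⟨y, hy, m, hm, hym⟩ := Subgroup.mem_sup_of_normal_right.1 hx
          refine ⟨⟨y, hy⟩, ?_⟩
          change (QuotientGroup.mk' _) _ = (QuotientGroup.mk' _) _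
          rw [QuotientGroup.mk'_apply, QuotientGroup.mk'_apply, QuotientGroup.eq, Subgroup.mem_subgroupOf]
          change y⁻¹ * x ∈ M
          rw [← hym, inv_mul_cancel_left]
          exact hm
        exact Group.isSolvable_of_surjective hg
    have hPN : (P : Subgroup G) ≤ solvableRadical G := le_sup_left.trans (le_rad hPM hPMs)
    obtain ⟨S, hSn, hSN, -, hSab, hSi, hel⟩ := sylow_sub hGIM (solvableRadical G) hcon
    have hPS : (P : Subgroup G) ≤ S := by
      intro x hx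
      obtain ⟨k, hk⟩ := P.isPGroup' ⟨x, hx⟩
      exact hel x (hPN hx) k (congrArg Subtype.val hk)
    refine rho_abelian (rho_of_im (hs b hb).2) S hSab fun h2 => ?_
    exact P.not_dvd_index (h2.trans (Subgroup.index_dvd_of_le hPS))
  -- two primes outside `ρ(N)`
  obtain ⟨a, ha, a', ha', haa', haN, haN'⟩ : ∃ a ∈ s, ∃ a' ∈ s, a ≠ a' ∧ ¬ H33.IM a (solvableRadical G) ∧
      ¬ H33.IM a' (solvableRadical G) := by
    by_contra hcon
    push Not at hcon
    have h1 : (s.filter fun p => ¬ H33.IM p (solvableRadical G)).card ≤ 1 := by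
      rw [Finset.card_le_one]
      intro a ha a' ha'
      rw [Finset.mem_filter] at ha ha'
      by_contra hne
      exact ha'.2 (hcon a ha.1 a' ha'.1 hne ha.2)
    have h2 := Finset.card_filter_add_card_filter_not (s := s) (fun p => H33.IM p (solvableRadical G))
    have h3 : 2 < (s.filter fun p => H33.IM p (solvableRadical G)).card := by omega
    obtain ⟨p, hp, q, hq, r, hr, hpq, hpr, hqr⟩ := Finset.two_lt_card.1 h3
    rw [Finset.mem_filter] at hp hq hr
    have hadj : ∀ x ∈ s, ∀ y ∈ s, ¬ Cfsg.Agent.H671.H5.Adj x y (solvableRadical G) := by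
      intro x hx y hy h
      obtain ⟨h1, -, -, h2⟩ := H988.DG.adj_iff.1 h
      exact hna x hx y hy h1 (h2.of_normal _)
    rcases H748.Palfy.palfy hNs (H988.DG.mem_dp_iff.2 ⟨(hs p hp.1).1, hp.2⟩) (H988.DG.mem_dp_iff.2 ⟨(hs q hq.1).1, hq.2⟩)
      (H988.DG.mem_dp_iff.2 ⟨(hs r hr.1).1, hr.2⟩) hpq hqr hpr with h | h | h
    · exact hadj p hp.1 q hq.1 h
    · exact hadj q hq.1 r hr.1 h
    · exact hadj p hp.1 r hr.1 h
  have hrb : Rho b G := rho_of_im (hs b hb).2
  have hrbM : ¬ Rho b (G ⧸ M) := fun h => hbM (Rho.im h)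
  by_cases hMb : IsPGroup b M
  · -- the second configuration
    obtain ⟨P, H, h⟩ := t2pre hGIM M (hs b hb).1 hmin hrb hrbM hMb
    have hPn : P.Normal := h.nrm
    have hPN : P ≤ solvableRadical G := by
      refine le_rad hPn ?_
      have := h.isP.isNilpotent
      infer_instance
    have hH : solvableRadical G ⊔ H = ⊤ := by
      rw [eq_top_iff, ← h.compl.sup_eq_top]
      exact sup_le_sup_right hPN H
    obtain ⟨n, hn, hV⟩ := H55.T2a.card h
    obtain ⟨n', hW⟩ := H55.T2a.cardW h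
    refine core hK hGIM hA hF hG hRt h26 h26' hL2B s hcard hs hna ih1 M hmin hb hbN ha ha' haa' haN haN' H hH
      (hs b hb).1 hn hV (H55.T2a.irr h) (H55.T2a.cfgV h) ?_
    intro z hz hzb Z hZn hZab hZt a0 ha0 ha0b ha0z hu0 hc0
    have hzf : Fact z.Prime := ⟨(hs z hz).1⟩
    have ha0f : Fact a0.Prime := ⟨(hs a0 ha0).1⟩
    by_cases hWt : Triv (LC P) (Z : Subgroup H)
    · exact H55.T2a.nt h (hs z hz).1 hzb (rho_of_im (hs z hz).2) Z hZn hZab hWt
    have hnabz : NA b z G := by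
      rintro _ ⟨χ, rfl⟩ h1 h2
      exact hna b hb z hz hzb.symm ⟨χ, Nat.Coprime.mul_dvd_of_dvd_of_dvd
        ((Nat.coprime_primes (hs b hb).1 (hs z hz).1).2 hzb.symm) h1 h2⟩
    have hfields := (T2b.fields h (hs z hz).1 hzb Z hZn hZt hWt hnabz).2
    have hWf : Finite (LC P) := Nat.finite_of_card_ne_zero (by rw [hW]; exact pow_ne_zero _ (hs b hb).1.ne_zero)
    have hVf : Finite (LC M) := Nat.finite_of_card_ne_zero (by rw [hV]; exact pow_ne_zero _ (hs b hb).1.ne_zero)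
    have hcop : (Nat.card (Z : Subgroup H)).Coprime (Nat.card (LC P)) := by
      obtain ⟨k, hk⟩ := (IsPGroup.iff_card).1 Z.isPGroup'
      rw [hk, hW]
      exact Nat.Coprime.pow _ _ ((Nat.coprime_primes (hs z hz).1 (hs b hb).1).2 hzb)
    have hinf := fixed_inf_com (V := LC P) (Z : Subgroup H) hcop
    have hI := inv_com (V := LC P) (Z : Subgroup H) hZn
    have huW := (guf_of_cfg_fixed hGIM (H55.T2a.cfgW h) (z := a0) (y := z) (by
      rintro _ ⟨χ, rfl⟩ - h1 h2
      exact hna z hz a0 ha0 ha0z.symm ⟨χ, Nat.Coprime.mul_dvd_of_dvd_of_dvd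
        ((Nat.coprime_primes (hs z hz).1 (hs a0 ha0).1).2 ha0z.symm) h1 h2⟩) Z hZn).1
    have huS := huW.sub hI hinf
    obtain ⟨m, hm, hcm⟩ := exists_card_fixed (V := LC P) (hs b hb).1 hW (com (LC P) (Z : Subgroup H))
    have hm0 : 0 < m := by
      rcases Nat.eq_zero_or_pos m with h0 | h0
      · exfalso
        rw [hcm, h0, pow_zero] at hfields
        have := Nat.card_pos (α := LC M)
        omega
      · exact h0
    have heq := UF.card_eq (hs b hb).1 hu0 huS hV (by rw [Sub.card]; exact hcm) hn hm0 hc0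
    rw [hV, hcm, heq] at hfields
    exact lt_irrefl _ hfields
  · -- the first configuration
    obtain ⟨H, h⟩ := t1 hGIM M (hs b hb).1 hmin hab hrb hrbM hMb
    have hH : solvableRadical G ⊔ H = ⊤ := by
      rw [eq_top_iff, ← h.compl.sup_eq_top]
      exact sup_le_sup_right hMN H
    obtain ⟨l, n, hl, -, hn, hV⟩ := h.card
    refine core hK hGIM hA hF hG hRt h26 h26' hL2B s hcard hs hna ih1 M hmin hb hbN ha ha' haa' haN haN' H hH
      hl hn hV h.irr h.cfg ?_
    intro z hz hzb Z hZn hZab hZt _ _ _ _ _ _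
    exact h.nt z (hs z hz).1 (rho_of_im (hs z hz).2) Z hZn hZab hZt

end Cfsg.Agent.H672.Four
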