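import Cfsg.Agent.H672.Four.InterfaceB
import Cfsg.Agent.H672.Four.Cfg
import Cfsg.Agent.H670.Palfy.Generic
import Cfsg.Agent.H670.Palfy.FieldSld
import Cfsg.Agent.H670.Palfy.Structure
import Cfsg.Agent.H566.Main

/-!
# S4773: groups containing an irreducible element of prime order (helper672)

`H` acts faithfully on `V`; the elements of prime order `r` act irreducibly.

* `comm_cent`, `norm_solvable` : `C_H(y)` is abelian, `N_H(⟨y⟩)` is solvable (`y` of order `r`);
* `dvd_of_nonsolvable` : a nonsolvable normal subgroup has order divisible by `r`;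
* `quot_solvable` : a normal subgroup of order divisible by `r` has a solvable quotient;
* `not_dvd_solvable` : `H` nonsolvable, `UF z H ⊥`: `z` does not divide the order of a solvable normal subgroup.
-/

set_option autoImplicit false
set_option linter.unusedSectionVars false

namespace Cfsg.Agent.H672.Four

open Subgroup Cfsg.Agent.H670.Palfy Cfsg.Agent.PermutationGroups.HalfTransField
open scoped commutatorElement

universe u v

/-- `y` acts irreducibly. -/
def IrrE {H : Type u} (V : Type v) [Group H] [AddCommGroup V] [DistribMulAction H V] (y : H) : Prop :=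
  ∀ W : AddSubgroup V, (∀ w ∈ W, y • w ∈ W) → W = ⊥ ∨ W = ⊤

section

variable {H : Type u} {V : Type v} [Group H] [AddCommGroup V] [DistribMulAction H V]

theorem comm_cent [Nontrivial V] (hf : Faith H V) {y : H} (hy : IrrE V y) {a b : H} (ha : a * y = y * a)
    (hb : b * y = y * b) : a * b = b * a := by
  have h1 := tau_mem_of_comm hy ha
  have h2 := tau_mem_of_comm hy hb
  have h3 := ringOf_comm (V := V) (zpowers y) zpowers_comm _ h1 _ h2
  have h4 : (b * a)⁻¹ * (a * b) = 1 := by
    apply hf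
    intro v
    have h5 := DFunLike.congr_fun h3 v
    have h6 : (a * b) • v = (b * a) • v := by
      rw [mul_smul, mul_smul]
      exact h5
    rw [mul_smul, h6, inv_smul_smul]
  exact (inv_mul_eq_one.1 h4).symm

/-- The normaliser of a cyclic group with abelian centraliser is solvable. -/
theorem norm_solvable [Nontrivial V] (hf : Faith H V) {y : H} (hy : IrrE V y) :
    Group.IsSolvable (normalizer (zpowers y : Set H)) := by
  set N := normalizer (zpowers y : Set H) with hN
  -- conjugates of `y` by elements of `N` are powers of `y`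
  have hpow : ∀ g ∈ N, ∃ k : ℤ, g * y * g⁻¹ = y ^ k := by
    intro g hg
    have h1 := (mem_normalizer_iff.1 hg y).1 (mem_zpowers y)
    obtain ⟨k, hk⟩ := h1
    exact ⟨k, hk.symm⟩
  have hcom : ∀ a b : N, ⁅a, b⁆ ∈ (centralizer ({y} : Set H)).subgroupOf N := by
    intro a b
    rw [mem_subgroupOf, mem_centralizer_singleton_iff]
    obtain ⟨i, hi⟩ := hpow a a.2
    obtain ⟨j, hj⟩ := hpow b b.2
    have h1 : (a : H) * b * y * ((a : H) * b)⁻¹ = (b : H) * a * y * ((b : H) * a)⁻¹ := by
      have e1 : (a : H) * b * y * ((a : H) * b)⁻¹ = a * (b * y * (b : H)⁻¹) * (a : H)⁻¹ := by group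
      have e2 : (b : H) * a * y * ((b : H) * a)⁻¹ = b * (a * y * (a : H)⁻¹) * (b : H)⁻¹ := by group
      rw [e1, e2, hi, hj, ← conj_zpow, ← conj_zpow, hi, hj, ← zpow_mul, ← zpow_mul, mul_comm]
    have h2 : ((⁅a, b⁆ : N) : H) = (a : H) * b * ((b : H) * a)⁻¹ := by
      rw [commutatorElement_def]
      push_cast
      group
    rw [h2]
    have h3 : ((b : H) * a)⁻¹ * ((a : H) * b * y * ((a : H) * b)⁻¹) * ((b : H) * a) = y := by
      rw [h1]; group
    have h4 : (a : H) * b * ((b : H) * a)⁻¹ * (((b : H) * a) * y * ((b : H) * a)⁻¹) =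
        ((b : H) * a * y * ((b : H) * a)⁻¹) * ((a : H) * b * ((b : H) * a)⁻¹) := by
      conv_rhs => rw [← h1]
      group
    -- `c = ab (ba)⁻¹` commutes with `z = ba y (ba)⁻¹`, a power of `y` generating `⟨y⟩`
    have h5 : ∃ k : ℤ, ((b : H) * a) * y * ((b : H) * a)⁻¹ = y ^ k ∧ ∃ l : ℤ, y = (y ^ k) ^ l := by
      obtain ⟨k, hk⟩ := hpow _ (N.mul_mem b.2 a.2)
      refine ⟨k, hk, ?_⟩
      obtain ⟨l, hl⟩ := hpow _ (N.inv_mem (N.mul_mem b.2 a.2))
      refine ⟨l, ?_⟩
      rw [inv_inv] at hl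
      have h6 : y = ((b : H) * a) * (((b : H) * a)⁻¹ * y * ((b : H) * a)) * ((b : H) * a)⁻¹ := by group
      conv_lhs => rw [h6, hl]
      rw [← conj_zpow, hk]
    obtain ⟨k, hk, l, hl⟩ := h5
    rw [hk] at h4
    have h6 : Commute ((a : H) * b * ((b : H) * a)⁻¹) (y ^ k) := h4
    have h7 := h6.zpow_right l
    rw [← hl] at h7
    exact h7.eq
  have hCs : Group.IsSolvable ((centralizer ({y} : Set H)).subgroupOf N) := by
    refine Group.isSolvable_of_comm ?_
    intro a b
    have ha := mem_centralizer_singleton_iff.1 (mem_subgroupOf.1 a.2)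
    have hb := mem_centralizer_singleton_iff.1 (mem_subgroupOf.1 b.2)
    exact Subtype.ext (Subtype.ext (comm_cent hf hy ha hb))
  have hCn : ((centralizer ({y} : Set H)).subgroupOf N).Normal := by
    refine ⟨fun c hc g => ?_⟩
    have h1 := hcom g c
    have h2 : g * c * g⁻¹ = ⁅g, c⁆ * c := by rw [commutatorElement_def]; group
    rw [h2]
    exact mul_mem h1 hc
  rw [Group.isSolvable_iff_subgroup_quotient ((centralizer ({y} : Set H)).subgroupOf N)]
  refine ⟨hCs, ?_⟩
  refine Group.isSolvable_of_comm ?_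
  intro a b
  induction a using QuotientGroup.induction_on with
  | H a =>
  induction b using QuotientGroup.induction_on with
  | H b =>
  have h1 := hcom a b
  rw [← QuotientGroup.mk_mul, ← QuotientGroup.mk_mul, QuotientGroup.eq]
  have h2 : (a * b)⁻¹ * (b * a) = ⁅b⁻¹, a⁻¹⁆ := by rw [commutatorElement_def]; group
  rw [h2]
  exact hcom b⁻¹ a⁻¹

end

section

variable {H : Type u} {V : Type v} [Group H] [Finite H] [AddCommGroup V] [Finite V] [DistribMulAction H V]
  [Nontrivial V] (hf : Faith H V) {r : ℕ} (hr : r.Prime) (hirr : ∀ y : H, y ^ r = 1 → y ≠ 1 → IrrE V y)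

include hf hr hirr

/-- The normaliser of a nontrivial `r`-subgroup is solvable. -/
theorem norm_sylow_solvable {Y : Subgroup H} (hY : IsPGroup r Y) (hY1 : Y ≠ ⊥) :
    Group.IsSolvable (normalizer (Y : Set H)) ∧
    ∃ z ∈ Y, z ≠ 1 ∧ z ^ r = 1 ∧ ∀ g ∈ normalizer (Y : Set H), g * z * g⁻¹ ∈ zpowers z := by
  have hrf : Fact r.Prime := ⟨hr⟩
  have : Nontrivial Y := (Subgroup.nontrivial_iff_ne_bot _).2 hY1
  have : Nontrivial (Subgroup.center Y) := hY.center_nontrivial
  have hPc : IsPGroup r (Subgroup.center Y) := hY.to_subgroup _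
  have hd : r ∣ Nat.card (Subgroup.center Y) := by
    obtain ⟨k, hk⟩ := IsPGroup.iff_card.1 hPc
    rcases Nat.eq_zero_or_pos k with h | h
    · exfalso
      rw [h, pow_zero] at hk
      have := Finite.one_lt_card (α := Subgroup.center Y)
      omega
    · rw [hk]
      exact dvd_pow_self r h.ne'
  obtain ⟨x, hx⟩ := exists_prime_orderOf_dvd_card' r hd
  have hxt : x ^ r = 1 := orderOf_dvd_iff_pow_eq_one.1 hx.dvd
  set z : H := ((x : Y) : H) with hz
  have hz1 : z ≠ 1 := by
    intro h
    have h1 : x = 1 := Subtype.ext (Subtype.ext h)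
    rw [h1, orderOf_one] at hx
    exact hr.one_lt.ne hx
  have hzr : z ^ r = 1 := by
    have h2 := congrArg (fun w : Subgroup.center Y => ((w : Y) : H)) hxt
    simpa using h2
  have hzc : ∀ y ∈ Y, z * y = y * z := by
    intro y hy
    have h1 := Subgroup.mem_center_iff.1 x.2 ⟨y, hy⟩
    exact (congrArg Subtype.val h1).symm
  have key : ∀ g ∈ normalizer (Y : Set H), g * z * g⁻¹ ∈ zpowers z := by
    intro g hg
    refine mem_zpowers_of_comm hf (hirr z hzr hz1) hr hzr hz1 ?_ ?_
    · rw [conj_pow, hzr]; group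
    · exact (hzc _ ((mem_normalizer_iff.1 hg z).1 (x : Y).2)).symm
  refine ⟨?_, z, (x : Y).2, hz1, hzr, key⟩
  have hle : normalizer (Y : Set H) ≤ normalizer (zpowers z : Set H) := by
    have h1 : ∀ g ∈ normalizer (Y : Set H), ∀ w ∈ zpowers z, g * w * g⁻¹ ∈ zpowers z := by
      rintro g hg _ ⟨i, rfl⟩
      change g * z ^ i * g⁻¹ ∈ _
      rw [← conj_zpow]
      exact zpow_mem (key g hg) i
    intro g hg
    rw [mem_normalizer_iff]
    intro w
    refine ⟨h1 g hg w, fun h => ?_⟩
    have h2 := h1 g⁻¹ (inv_mem hg) _ h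
    have e : g⁻¹ * (g * w * g⁻¹) * g⁻¹⁻¹ = w := by group
    rwa [e] at h2
  have := norm_solvable hf (hirr z hzr hz1)
  exact Group.isSolvable_of_isSolvable_injective (Subgroup.inclusion_injective hle)

/-- **Frattini.** -/
theorem quot_solvable (X : Subgroup H) [X.Normal] (hX : r ∣ Nat.card X) : Group.IsSolvable (H ⧸ X) := by
  have hrf : Fact r.Prime := ⟨hr⟩
  obtain ⟨Y⟩ : Nonempty (Sylow r X) := inferInstance
  have hY : IsPGroup r ((Y : Subgroup X).map X.subtype) := Y.isPGroup'.map _
  have hY1 : (Y : Subgroup X).map X.subtype ≠ ⊥ := by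
    intro h
    rw [(Subgroup.map_eq_bot_iff_of_injective _ X.subtype_injective)] at h
    have h1 := Y.dvd_card_of_dvd_card hX
    rw [h, Subgroup.card_bot] at h1
    exact hr.one_lt.ne' (Nat.dvd_one.1 h1)
  have h1 := (norm_sylow_solvable hf hr hirr hY hY1).1
  have h2 := Sylow.normalizer_sup_eq_top Y
  let f : normalizer (((Y : Subgroup X).map X.subtype : Subgroup H) : Set H) →* H ⧸ X :=
    (QuotientGroup.mk' X).comp (normalizer (((Y : Subgroup X).map X.subtype : Subgroup H) : Set H)).subtype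
  have hs : Function.Surjective f := by
    intro q
    obtain ⟨g, rfl⟩ := QuotientGroup.mk_surjective q
    have h3 : g ∈ normalizer (((Y : Subgroup X).map X.subtype : Subgroup H) : Set H) ⊔ X := by
      rw [h2]; trivial
    obtain ⟨n, hn, x, hx, rfl⟩ := Subgroup.mem_sup_of_normal_right.1 h3
    refine ⟨⟨n, hn⟩, ?_⟩
    change (n : H ⧸ X) = ((n * x : H) : H ⧸ X)
    rw [QuotientGroup.eq]
    simpa using hx
  exact Group.isSolvable_of_surjective hs

/-- **A nonsolvable normal subgroup has order divisible by `r`.** -/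
theorem dvd_of_nonsolvable (hK : H566.KnownAll.{u}) (hrH : r ∣ Nat.card H) (X : Subgroup H) [hXn : X.Normal]
    (hX : ¬ Group.IsSolvable X) : r ∣ Nat.card X := by
  by_contra hcon
  have hrf : Fact r.Prime := ⟨hr⟩
  obtain ⟨y, hy⟩ := exists_prime_orderOf_dvd_card' r hrH
  have hy1 : y ≠ 1 := by
    rintro rfl
    rw [orderOf_one] at hy
    exact hr.one_lt.ne hy
  have hyr : y ^ r = 1 := by rw [← hy]; exact pow_orderOf_eq_one y
  have hcop : (Nat.card (zpowers y)).Coprime (Nat.card X) := by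
    rw [Nat.card_zpowers, hy]
    exact (Nat.Prime.coprime_iff_not_dvd hr).2 hcon
  have h1 := H566.rich_sub hK (A := zpowers y) (G := X) (by
    rw [Subgroup.normalizer_eq_top]; exact le_top) hcop hX
  apply h1.1
  have hc : ∀ a b : ↥(X ⊓ centralizer (zpowers y : Set H)), a * b = b * a := by
    intro a b
    have key : ∀ c : ↥(X ⊓ centralizer (zpowers y : Set H)), (c : H) * y = y * c := fun c =>
      ((mem_centralizer_iff.1 (mem_inf.1 c.2).2) y (mem_zpowers y)).symm
    exact Subtype.ext (comm_cent hf (hirr y hyr hy1) (key a) (key b))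
  let _ : CommGroup ↥(X ⊓ centralizer (zpowers y : Set H)) :=
    { (inferInstance : Group ↥(X ⊓ centralizer (zpowers y : Set H))) with mul_comm := hc }
  infer_instance

end

/-- `H` acts faithfully on `V` of order `ℓ ^ n`, `r` is a primitive prime divisor of `ℓ ^ n - 1`. -/
structure Dat (H : Type u) (V : Type v) [Group H] [AddCommGroup V] [DistribMulAction H V] (l n r : ℕ) : Prop where
  hf : Faith H V
  hl : l.Prime
  hn : 0 < n
  hV : Nat.card V = l ^ n
  hexp : ∀ v : V, l • v = 0
  hr : r.Prime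
  hrl : ¬ r ∣ l
  hprim : ∀ m, r ∣ l ^ m - 1 ↔ n ∣ m

namespace Dat

variable {H : Type u} {V : Type v} [Group H] [Finite H] [AddCommGroup V] [Finite V] [DistribMulAction H V]
  {l n r : ℕ}

theorem nontrivial (h : Dat H V l n r) : Nontrivial V := by
  rw [← Finite.one_lt_card_iff_nontrivial, h.hV]
  exact Nat.one_lt_pow h.hn.ne' h.hl.one_lt

theorem irr (h : Dat H V l n r) (y : H) (hy : y ^ r = 1) (hy1 : y ≠ 1) : IrrE V y := by
  have : Fact r.Prime := ⟨h.hr⟩
  exact fun W hW => irr_of_primitive h.hl h.hV h.hexp h.hf h.hprim h.hrl y hy hy1 W hW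

theorem restrict (h : Dat H V l n r) (X : Subgroup H) : Dat X V l n r :=
  { h with hf := fun x hx => Subtype.ext (h.hf x hx) }

theorem not_triv (h : Dat H V l n r) {z : ℕ} [hz : Fact z.Prime] (hd : z ∣ Nat.card H) (Q : Sylow z H) :
    ¬ Triv V (Q : Subgroup H) := by
  intro ht
  have h1 := Q.dvd_card_of_dvd_card hd
  have h2 : (Q : Subgroup H) = ⊥ := by
    rw [eq_bot_iff]
    intro x hx
    exact h.hf x (ht x hx)
  rw [h2, Subgroup.card_bot] at h1
  exact hz.out.one_lt.ne' (Nat.dvd_one.1 h1)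

theorem sylow_card (h : Dat H V l n r) {z : ℕ} [hz : Fact z.Prime] (hu : UF z H (⊥ : AddSubgroup V))
    (hd : z ∣ Nat.card H) : r ∣ Nat.card (Sylow z H) := by
  obtain ⟨Q⟩ : Nonempty (Sylow z H) := inferInstance
  obtain ⟨m, hm0, hm, -, e⟩ := hu.params h.hl h.hV h.hn Q (hu.card_ne_one (h.not_triv hd Q))
  have h1 : r ∣ l ^ n - 1 := (h.hprim n).2 dvd_rfl
  rw [e] at h1
  refine (h.hr.dvd_mul.1 h1).resolve_right fun h2 => ?_
  have := Nat.le_of_dvd hm0 ((h.hprim m).1 h2)
  omega

theorem dvd_card (h : Dat H V l n r) {z : ℕ} [hz : Fact z.Prime] (hu : UF z H (⊥ : AddSubgroup V))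
    (hd : z ∣ Nat.card H) : r ∣ Nat.card H := by
  obtain ⟨Q⟩ : Nonempty (Sylow z H) := inferInstance
  exact (h.sylow_card hu hd).trans (Q.card_dvd_index.trans (Subgroup.index_dvd_card _))

/-- **Solvable normal subgroups of nonsolvable groups have order prime to `z`.** -/
theorem not_dvd_solvable (h : Dat H V l n r) {z : ℕ} [hz : Fact z.Prime] (hu : UF z H (⊥ : AddSubgroup V))
    (hH : ¬ Group.IsSolvable H) (X : Subgroup H) [hXn : X.Normal] (hX : Group.IsSolvable X) :
    ¬ z ∣ Nat.card X := by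
  intro hd
  have hVn := h.nontrivial
  have h1 : r ∣ Nat.card X := (h.restrict X).dvd_card (uf_normal hu X) hd
  have h2 := quot_solvable h.hf h.hr h.irr X h1
  exact hH ((Group.isSolvable_iff_subgroup_quotient X).2 ⟨hX, h2⟩)

end Dat

end Cfsg.Agent.H672.Four
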