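import Cfsg.Agent.H344.FourAsm
import Cfsg.Agent.H653.Four.Ru
import Cfsg.Agent.H30.GraphFi24B
import Cfsg.Agent.H671.FactsFin

/-!
# S4773, unconditionally (helper672)

This module imports the classification `S0000`.

* `sporWeak` : the facts of the sporadic groups (all but `Ru` have the full fact `Ind`; `Ru` has the weak facts);
* `result_final` : among four vertices of the character degree graph of a finite group two are adjacent.
-/

set_option autoImplicit false

namespace Cfsg.Agent.H672.Four

open Cfsg Cfsg.Agent.H671.H5 Cfsg.Agent.H671.GraphAsm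

universe u

theorem sporWeak : H344.FourAsm.SporWeak.{u} := by
  intro S _ _ _ hna hS
  rcases spor_split knownAll hS with h | h | h
  · exact Or.inl h.ind
  · have hw := H653.Four.weak_ru h (H344.FourAsm.hout hna hS)
    exact Or.inr ⟨hw.ind4, hw.l2b⟩
  · exact Or.inl (H30.GraphFi24.facts_fi24 h).ind

/-- **Among four vertices of the character degree graph two are adjacent.** -/
theorem result_final {G : Type u} [Group G] [Finite G] (s : Finset ℕ) (hs : ↑s ⊆ Cfsg.degreePrimes G)
    (hcard : s.card = 4) : ∃ p ∈ s, ∃ q ∈ s, (Cfsg.degreeGraph G).Adj p q :=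
  H344.FourAsm.result_of_spor (fun _ _ _ _ => S0000.result) herzog restAll sporWeak factIM_all factAll
    H344.FactOutRow.factOut s hs hcard

end Cfsg.Agent.H672.Four
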