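import Cfsg.Agent.H672.Four.B2Core
import Cfsg.Agent.H993.SLFaith
import Cfsg.Agent.H401.DG4.QA
import Cfsg.Agent.S0205

/-!
# S4773: the module-theoretic part of the case of a nontrivial solvable radical (helper672)

`ρ : H → H'` is the faithful quotient of `H` on `V`, `f : H → Q` has a solvable kernel, `Q` has no solvable normal
subgroups, `T` is a normal simple subgroup of `Q` of order divisible by `a`, and `UF a H ⊥`.

* `Ctx.ns`     : the preimage of `T` has a nonsolvable image in `H'`;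
* `Ctx.zclaim` : if `z ∤ |Q|`, `UF z H ⊥`, the Sylow `z`-subgroups of `H` act trivially on `V`;
* `Ctx.b2`     : the case of a maximal normal subgroup `K ≥ T` of `Q` whose `t`-elements act trivially.
-/

set_option autoImplicit false
set_option linter.unusedSectionVars false

namespace Cfsg.Agent.H672.Four

open Subgroup Cfsg.Agent.H670.Palfy Cfsg.Agent.H401.DG4

universe u v

theorem two_dvd_of_nonsolvable {X : Type u} [Group X] [Finite X] (h : ¬ Group.IsSolvable X) : 2 ∣ Nat.card X := by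
  by_contra h2
  have hodd : Odd (Nat.card X) := by rw [← Nat.not_even_iff_odd, even_iff_two_dvd]; exact h2
  exact h (Cfsg.Agent.S0205.result hodd)

structure Ctx {H H' Q : Type u} {V : Type v} [Group H] [Group H'] [Group Q] [AddCommGroup V]
    [DistribMulAction H V] [DistribMulAction H' V] (ρ : H →* H') (f : H →* Q) (l n : ℕ) : Prop where
  rs : Function.Surjective ρ
  hc : ∀ (h : H) (v : V), ρ h • v = h • v
  hf : Faith H' V
  fs : Function.Surjective f
  fk : Group.IsSolvable f.ker
  nos : NoSol Q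
  hl : l.Prime
  hn : 0 < n
  hV : Nat.card V = l ^ n
  irr : Irr H V

namespace Ctx

variable {H H' Q : Type u} {V : Type v} [Group H] [Group H'] [Group Q] [AddCommGroup V] [DistribMulAction H V]
  [DistribMulAction H' V] [Finite H] [Finite H'] [Finite Q] [Finite V] {ρ : H →* H'} {f : H →* Q} {l n : ℕ}

theorem rho_eq_one (c : Ctx (V := V) ρ f l n) {h : H} : ρ h = 1 ↔ ∀ v : V, h • v = v := by
  constructor
  · intro h1 v
    rw [← c.hc, h1, one_smul]
  · intro h1
    apply c.hf
    intro v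
    rw [c.hc, h1]

theorem nontrivial (c : Ctx (V := V) ρ f l n) : Nontrivial V := by
  rw [← Finite.one_lt_card_iff_nontrivial, c.hV]
  exact Nat.one_lt_pow c.hn.ne' c.hl.one_lt

theorem irr' (c : Ctx (V := V) ρ f l n) : Irr H' V := by
  intro W hW
  refine c.irr W fun h w hw => ?_
  rw [← c.hc]
  exact hW _ w hw

/-- A primitive prime divisor. -/
theorem dat_or (c : Ctx (V := V) ρ f l n) {z : ℕ} [hz : Fact z.Prime] (hzl : z ≠ l) (hu : UF z H (⊥ : AddSubgroup V))
    (hd : z ∣ Nat.card H') : (l = 2 ∧ n = 6) ∨ ∃ r, Dat H' V l n r := by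
  by_cases h6 : l = 2 ∧ n = 6
  · exact Or.inl h6
  right
  have hVn := c.nontrivial
  have hu' : UF z H' (⊥ : AddSubgroup V) := H993.SLFaith.uf_map hz.out c.rs c.hc hu
  obtain ⟨Z⟩ : Nonempty (Sylow z H') := inferInstance
  have hZ : ¬ Triv V (Z : Subgroup H') := by
    intro ht
    have h1 := Z.dvd_card_of_dvd_card hd
    have h2 : (Z : Subgroup H') = ⊥ := by
      rw [eq_bot_iff]
      intro x hx
      exact c.hf x (ht x hx)
    rw [h2, Subgroup.card_bot] at h1
    exact hz.out.one_lt.ne' (Nat.dvd_one.1 h1)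
  obtain ⟨m, hm0, hmn, -, e1⟩ := hu'.params c.hl c.hV c.hn Z (hu'.card_ne_one hZ)
  have h2 : n ≠ 2 := by
    intro hn2
    have hm1 : m = 1 := by omega
    rw [hn2, hm1] at e1
    have hcard : Nat.card (Sylow z H') = l + 1 := by
      have h3 : l ^ 2 - 1 = (l + 1) * (l - 1) := by
        have := Nat.sq_sub_sq l 1
        simpa using this
      rw [h3, pow_one] at e1
      have h4 : 0 < l - 1 := by have := c.hl.two_le; omega
      exact (Nat.eq_of_mul_eq_mul_right h4 e1).symm
    have h3 := card_sylow_modEq_one z H'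
    rw [hcard] at h3
    have h4 : z ∣ l := by
      have h5 := (Nat.modEq_iff_dvd' (by omega)).1 h3.symm
      simpa using h5
    exact hzl ((Nat.prime_dvd_prime_iff_eq hz.out c.hl).1 h4)
  obtain ⟨r, hr, hrn, -, hrl⟩ := Cfsg.Agent.Lib.Zsigmondy.exists_primitive (a := l) (n := n) c.hl.two_le
    (by omega) (fun h => absurd h h2) h6
  exact ⟨r, ⟨c.hf, c.hl, c.hn, c.hV, exp_of_irr c.hl c.hn c.hV c.irr', hr, hrl, hrn⟩⟩

/-- The primes dividing `|Q|` with the unique fixing property divide `|H'|`. -/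
theorem dvd_of_dvd (c : Ctx (V := V) ρ f l n) {z : ℕ} [hz : Fact z.Prime] (hu : UF z H (⊥ : AddSubgroup V))
    (hd : z ∣ Nat.card Q) : z ∣ Nat.card H' := by
  by_contra hcon
  have hVn := c.nontrivial
  obtain ⟨Z⟩ : Nonempty (Sylow z H) := inferInstance
  have hT : Triv V (Z : Subgroup H) := by
    intro x hx
    rw [← c.rho_eq_one]
    obtain ⟨k, hk⟩ := Z.isPGroup' ⟨x, hx⟩
    have h1 : x ^ z ^ k = 1 := congrArg Subtype.val hk
    have h2 : orderOf (ρ x) ∣ z ^ k := orderOf_dvd_of_pow_eq_one (by rw [← map_pow, h1, map_one])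
    have h3 : orderOf (ρ x) ∣ Nat.card H' := orderOf_dvd_natCard _
    have h4 : (z ^ k).Coprime (Nat.card H') := Nat.Coprime.pow_left k ((Nat.Prime.coprime_iff_not_dvd hz.out).2 hcon)
    exact orderOf_eq_one_iff.1 (Nat.eq_one_of_dvd_coprimes h4 h2 h3)
  have hN : (Z : Subgroup H).Normal := hu.normal_of_triv (by
    obtain ⟨v, hv⟩ := exists_ne (0 : V)
    intro h1
    exact hv ((h1 ▸ AddSubgroup.mem_top v : v ∈ (⊥ : AddSubgroup V)))) hT
  have hm : ((Z : Subgroup H).map f).Normal := hN.map f c.fs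
  have hs : Group.IsSolvable ((Z : Subgroup H).map f) := by
    have h1 : IsPGroup z ((Z : Subgroup H).map f) := Z.isPGroup'.map f
    have := h1.isNilpotent
    infer_instance
  have h1 := c.nos _ hm hs
  have h2 : (Z : Subgroup H) ≤ f.ker := (Subgroup.map_eq_bot_iff _).1 h1
  have h3 : f.ker.index = Nat.card Q := by
    rw [Subgroup.index_ker, f.range_eq_top_of_surjective c.fs, Subgroup.card_top]
  exact Z.not_dvd_index ((h3 ▸ hd : z ∣ f.ker.index).trans (Subgroup.index_dvd_of_le h2))

/-- **The image of the preimage of `T` is not solvable.** -/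
theorem ns (c : Ctx (V := V) ρ f l n) {a : ℕ} [ha : Fact a.Prime] (hu : UF a H (⊥ : AddSubgroup V)) (T : Subgroup Q)
    [hTn : T.Normal] (hT : IsSimpleGroup T) (hTna : ¬ IsMulCommutative T) (haT : a ∣ Nat.card T) (X : Subgroup H)
    (hX : T.comap f ≤ X) : ¬ Group.IsSolvable (X.map ρ) := by
  intro hs
  have hVn := c.nontrivial
  set E : Subgroup H := T.comap f with hE
  have hEn : E.Normal := hTn.comap f
  have hfE : E.map f = T := Subgroup.map_comap_eq_self_of_surjective c.fs T
  have hsE : Group.IsSolvable (E.map ρ) := by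
    exact Group.isSolvable_of_isSolvable_injective (Subgroup.inclusion_injective (Subgroup.map_mono hX))
  have hTs : ¬ Group.IsSolvable T := fun h => hTna ⟨⟨IsSimpleGroup.comm_iff_isSolvable.2 h⟩⟩
  have hCn : (ρ.ker ⊓ E).Normal := inferInstance
  have hCf : ((ρ.ker ⊓ E).map f).Normal := hCn.map f c.fs
  have hCT : (ρ.ker ⊓ E).map f ≤ T := by
    rw [← hfE]
    exact Subgroup.map_mono inf_le_right
  rcases min_of_simple hT _ hCf hCT with h1 | h1
  · -- `E` is solvable
    have h2 : ρ.ker ⊓ E ≤ f.ker := (Subgroup.map_eq_bot_iff _).1 h1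
    have h3 : Group.IsSolvable ↥(ρ.ker ⊓ E) := by
      have := c.fk
      exact Group.isSolvable_of_isSolvable_injective (Subgroup.inclusion_injective h2)
    have h4 : Group.IsSolvable E := by
      refine Group.isSolvable_of_ker_le_range (Subgroup.inclusion (inf_le_right : ρ.ker ⊓ E ≤ E)) (ρ.subgroupMap E) ?_
      intro x hx
      have h5 : ρ (x : H) = 1 := congrArg Subtype.val (MonoidHom.mem_ker.1 hx)
      exact ⟨⟨x, ⟨h5, x.2⟩⟩, rfl⟩
    apply hTs
    rw [← hfE]
    exact Group.isSolvable_of_surjective (f.subgroupMap_surjective E)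
  · -- `a` divides the order of the image of the kernel
    have hkn : (ρ.ker).Normal := inferInstance
    have hkt : Triv V ρ.ker := fun x hx => c.rho_eq_one.1 hx
    obtain ⟨A⟩ : Nonempty (Sylow a ρ.ker) := inferInstance
    have hA := sylow_normal_of_triv hu ρ.ker hkt A
    have hch : (A : Subgroup ρ.ker).Characteristic := Sylow.characteristic_of_normal A hA
    have hAn : ((A : Subgroup ρ.ker).map ρ.ker.subtype).Normal := ConjAct.normal_of_characteristic_of_normal
    have hAs : Group.IsSolvable (((A : Subgroup ρ.ker).map ρ.ker.subtype).map f) := by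
      have h1 : IsPGroup a (((A : Subgroup ρ.ker).map ρ.ker.subtype).map f) := (A.isPGroup'.map _).map f
      have := h1.isNilpotent
      infer_instance
    have h2 := c.nos _ (hAn.map f c.fs) hAs
    -- the image of the kernel has order prime to `a`
    set g : ρ.ker →* Q := f.comp ρ.ker.subtype with hg
    have h3 : (A : Subgroup ρ.ker) ≤ g.ker := by
      intro x hx
      have h4 : f x ∈ (((A : Subgroup ρ.ker).map ρ.ker.subtype).map f) := ⟨x, ⟨x, hx, rfl⟩, rfl⟩
      rw [h2, Subgroup.mem_bot] at h4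
      exact h4
    have h4 : g.ker.index = Nat.card g.range := Subgroup.index_ker g
    have h5 : T ≤ g.range := by
      rw [← h1]
      rintro _ ⟨x, hx, rfl⟩
      exact ⟨⟨x, hx.1⟩, rfl⟩
    have h6 : a ∣ g.ker.index := by
      rw [h4]
      exact haT.trans (Subgroup.card_dvd_of_le h5)
    exact A.not_dvd_index (h6.trans (Subgroup.index_dvd_of_le h3))

/-- **The primes not dividing `|Q|`.** -/
theorem zclaim (c : Ctx (V := V) ρ f l n) (h26 : FactTwoSix'.{u, v}) {a a0 z : ℕ} [ha : Fact a.Prime]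
    [ha0 : Fact a0.Prime] [hz : Fact z.Prime] (hu : UF a H (⊥ : AddSubgroup V)) (T : Subgroup Q)
    [hTn : T.Normal] (hT : IsSimpleGroup T) (hTna : ¬ IsMulCommutative T) (haT : a ∣ Nat.card T)
    (hu0 : UF a0 H (⊥ : AddSubgroup V)) (ha0l : a0 ≠ l) (ha0Q : a0 ∣ Nat.card Q)
    (huz : UF z H (⊥ : AddSubgroup V)) (hzQ : ¬ z ∣ Nat.card Q) (Z : Sylow z H) : Triv V (Z : Subgroup H) := by
  by_contra hcon
  have h1 : ¬ Triv V ((Z.mapSurjective c.rs : Sylow z H') : Subgroup H') := fun h =>
    hcon ((H993.SLFaith.triv_iff c.rs c.hc Z).1 h)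
  have hzH' : z ∣ Nat.card H' := by
    by_contra h2
    apply h1
    have h3 : ((Z.mapSurjective c.rs : Sylow z H') : Subgroup H') = ⊥ := by
      obtain ⟨j, hj⟩ := IsPGroup.iff_card.1 (Z.mapSurjective c.rs).isPGroup'
      rcases Nat.eq_zero_or_pos j with h0 | h0
      · rw [h0, pow_zero] at hj
        exact Subgroup.card_eq_one.1 hj
      · exact absurd ((dvd_pow_self z h0.ne').trans (hj ▸ Subgroup.card_subgroup_dvd_card _)) h2
    intro y hy v
    rw [h3, Subgroup.mem_bot] at hy
    rw [hy, one_smul]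
  have hns := c.ns hu T hT hTna haT ⊤ le_top
  have hH' : ¬ Group.IsSolvable H' := fun h => hns inferInstance
  have hXn : (f.ker.map ρ).Normal := Subgroup.Normal.map inferInstance ρ c.rs
  have hXs : Group.IsSolvable (f.ker.map ρ) := by
    have := c.fk
    exact Group.isSolvable_of_surjective (ρ.subgroupMap_surjective f.ker)
  have hzX : z ∣ Nat.card (f.ker.map ρ) := by
    have h2 : z ∣ Nat.card (f.ker.map ρ) * (f.ker.map ρ).index := by rwa [Subgroup.card_mul_index]
    refine (hz.out.dvd_mul.1 h2).resolve_right fun h3 => hzQ ?_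
    have h4 : (f.ker.map ρ).index ∣ f.ker.index := by
      rw [← Subgroup.index_comap_of_surjective (f.ker.map ρ) c.rs]
      exact Subgroup.index_dvd_of_le (Subgroup.le_comap_map _ _)
    have h5 : f.ker.index = Nat.card Q := by
      rw [Subgroup.index_ker, f.range_eq_top_of_surjective c.fs, Subgroup.card_top]
    rw [← h5]
    exact h3.trans h4
  have huz' : UF z H' (⊥ : AddSubgroup V) := H993.SLFaith.uf_map hz.out c.rs c.hc huz
  have hu0' : UF a0 H' (⊥ : AddSubgroup V) := H993.SLFaith.uf_map ha0.out c.rs c.hc hu0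
  have ha0H' := c.dvd_of_dvd hu0 ha0Q
  rcases c.dat_or ha0l hu0 ha0H' with ⟨hl2, hn6⟩ | ⟨r, h⟩
  · have h2Q : 2 ∣ Nat.card Q := by
      have hTs : ¬ Group.IsSolvable T := fun h => hTna ⟨⟨IsSimpleGroup.comm_iff_isSolvable.2 h⟩⟩
      exact (two_dvd_of_nonsolvable hTs).trans (Subgroup.card_subgroup_dvd_card _)
    refine h26 H' V c.hf (by rw [c.hV, hl2, hn6]) a0 z ha0.out hz.out ?_ (by rw [← hl2]; exact ha0l) ?_ ha0H' hzH' hu0' huz'
    · rintro rfl
      exact hzQ ha0Q
    · rintro rfl
      exact hzQ h2Q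
  · exact h.not_dvd_solvable huz' hH' _ hXs hzX

/-- **The second case.** -/
theorem b2 (c : Ctx (V := V) ρ f l n) (hK : H566.KnownAll.{u}) (hG : FactG.{u}) (hRt : FactRoot.{u, v})
    (h26 : FactTwoSix.{u, v}) {a a0 t : ℕ} [ha : Fact a.Prime]
    [ha0 : Fact a0.Prime] [ht : Fact t.Prime] (hu : UF a H (⊥ : AddSubgroup V)) (T : Subgroup Q)
    [hTn : T.Normal] (hT : IsSimpleGroup T) (hTna : ¬ IsMulCommutative T) (haT : a ∣ Nat.card T)
    (hu0 : UF a0 H (⊥ : AddSubgroup V)) (ha0l : a0 ≠ l) (ha0Q : a0 ∣ Nat.card Q)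
    (K : Subgroup Q) [hKn : K.Normal] (hKs : IsSimpleGroup (Q ⧸ K)) (hTK : T ≤ K)
    (hut : UF t H (⊥ : AddSubgroup V)) (htQ : t ∣ Nat.card Q)
    (htK : ∀ x : H, f x ∈ K → (∃ k, x ^ t ^ k = 1) → ∀ v : V, x • v = v) : False := by
  have hVn := c.nontrivial
  set Y : Subgroup H := K.comap f with hY
  have hYn : Y.Normal := hKn.comap f
  set X : Subgroup H' := Y.map ρ with hX
  have hXn : X.Normal := hYn.map ρ c.rs
  have hXs : ¬ Group.IsSolvable X := c.ns hu T hT hTna haT Y (Subgroup.comap_mono hTK)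
  have htH' := c.dvd_of_dvd hut htQ
  have hut' : UF t H' (⊥ : AddSubgroup V) := H993.SLFaith.uf_map ht.out c.rs c.hc hut
  have htX : ¬ t ∣ Nat.card X := by
    intro hd
    obtain ⟨S⟩ : Nonempty (Sylow t Y) := inferInstance
    have h1 := (S.mapSurjective (ρ.subgroupMap_surjective Y)).dvd_card_of_dvd_card hd
    have h2 : ((S.mapSurjective (ρ.subgroupMap_surjective Y) : Sylow t X) : Subgroup X) = ⊥ := by
      rw [Sylow.coe_mapSurjective, eq_bot_iff]
      rintro _ ⟨x, hx, rfl⟩
      rw [Subgroup.mem_bot]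
      apply Subtype.ext
      change ρ (x : H) = 1
      rw [c.rho_eq_one]
      obtain ⟨k, hk⟩ := S.isPGroup' ⟨x, hx⟩
      refine htK x x.2 ⟨k, ?_⟩
      exact congrArg (fun y : (S : Subgroup Y) => ((y : Y) : H)) hk
    rw [h2, Subgroup.card_bot] at h1
    exact ht.out.one_lt.ne' (Nat.dvd_one.1 h1)
  have ht2 : t ≠ 2 := by
    rintro rfl
    exact htX (two_dvd_of_nonsolvable hXs)
  have ha0H' := c.dvd_of_dvd hu0 ha0Q
  rcases c.dat_or ha0l hu0 ha0H' with ⟨hl2, hn6⟩ | ⟨r, h⟩
  · exact hXs (h26 H' V c.hf (by rw [c.hV, hl2, hn6]) t ht.out ht2 htH' hut' X hXn htX)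
  -- the quotient
  set g : H →* Q ⧸ K := (QuotientGroup.mk' K).comp f with hg
  have hgs : Function.Surjective g := (QuotientGroup.mk'_surjective K).comp c.fs
  have hgk : g.ker = Y := by
    rw [hg, ← MonoidHom.comap_ker, QuotientGroup.ker_mk']
  have hkr : ρ.ker ≤ Y := by
    have hn : (ρ.ker.map g).Normal := Subgroup.Normal.map inferInstance g hgs
    rcases hKs.eq_bot_or_eq_top_of_normal _ hn with h1 | h1
    · rw [← hgk]
      exact (Subgroup.map_eq_bot_iff _).1 h1
    · exfalso
      apply htX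
      have h2 : X = ⊤ := by
        rw [eq_top_iff]
        intro y _
        obtain ⟨x, rfl⟩ := c.rs y
        have h3 : g x ∈ ρ.ker.map g := by rw [h1]; trivial
        obtain ⟨k, hk, hkx⟩ := h3
        have h4 : k⁻¹ * x ∈ Y := by
          rw [← hgk, MonoidHom.mem_ker, map_mul, map_inv, hkx, inv_mul_cancel]
        refine ⟨k⁻¹ * x, h4, ?_⟩
        rw [map_mul, map_inv, (MonoidHom.mem_ker.1 hk), inv_one, one_mul]
      rw [h2, Subgroup.card_top]
      exact htH'
  have hXc : X.comap ρ = Y := by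
    rw [hX, Subgroup.comap_map_eq, sup_eq_left.2 hkr]
  have hXi : X.index = Nat.card (Q ⧸ K) := by
    rw [← Subgroup.index_comap_of_surjective X c.rs, hXc, hY, Subgroup.index_comap_of_surjective K c.fs]
    rfl
  have hquot : Group.IsSolvable (H' ⧸ X) :=
    quot_solvable h.hf h.hr h.irr X (dvd_of_nonsolvable h.hf h.hr h.irr hK (h.dvd_card hut' htH') X hXs)
  have hQK : Group.IsSolvable (Q ⧸ K) := by
    set g' : H →* H' ⧸ X := (QuotientGroup.mk' X).comp ρ with hg'
    have hgs' : Function.Surjective g' := (QuotientGroup.mk'_surjective X).comp c.rs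
    have hgk' : g'.ker = Y := by
      rw [hg', ← MonoidHom.comap_ker, QuotientGroup.ker_mk', hXc]
    have e1 := QuotientGroup.quotientKerEquivOfSurjective g hgs
    have e2 := QuotientGroup.quotientKerEquivOfSurjective g' hgs'
    have e3 : H ⧸ g.ker ≃* H ⧸ g'.ker := QuotientGroup.quotientMulEquivOfEq (by rw [hgk, hgk'])
    have e4 : (H' ⧸ X) ≃* (Q ⧸ K) := (e2.symm.trans e3.symm).trans e1
    exact Group.isSolvable_of_surjective (f := e4.toMonoidHom) e4.surjective
  have hpr : (Nat.card (Q ⧸ K)).Prime := by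
    have hcomm := IsSimpleGroup.comm_iff_isSolvable.2 hQK
    let _ : CommGroup (Q ⧸ K) := { (inferInstance : Group (Q ⧸ K)) with mul_comm := hcomm }
    exact IsSimpleGroup.prime_card
  have hti : t ∣ X.index := by
    have h2 : t ∣ Nat.card X * X.index := by rwa [Subgroup.card_mul_index]
    exact (ht.out.dvd_mul.1 h2).resolve_left htX
  rw [hXi] at hti
  have hit : X.index = t := by
    rw [hXi]
    exact ((Nat.prime_dvd_prime_iff_eq ht.out hpr).1 hti).symm
  exact b2core hK hG hRt h hut' X hXs hit htX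

end Ctx

end Cfsg.Agent.H672.Four
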