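import Cfsg.Agent.H672.Four.Interface
import Cfsg.Agent.H415.Palfy.T1

/-!
# S4773: the two configurations for nonsolvable groups (helper672)

The proofs of `H415.Palfy.factT1`, `factT2pre` with Itô-Michler for all groups.
-/

set_option autoImplicit false

namespace Cfsg.Agent.H672.Four

open Cfsg Cfsg.Agent.H670.Palfy Cfsg.Agent.Characters.Core Cfsg.Agent.H681.DegBasic Subgroup
open Cfsg.Agent.H415.Palfy
open scoped commutatorElement

universe u

section

theorem not_IM {X : Type u} [Group X] {p : ℕ} (h : ¬ Rho p X) : ¬ H33.IM p X := by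
  rintro ⟨χ, hχ⟩
  exact h ⟨_, ⟨χ, rfl⟩, hχ⟩

theorem Rho.im {X : Type u} [Group X] {p : ℕ} (h : Rho p X) : H33.IM p X := by
  obtain ⟨_, ⟨χ, rfl⟩, hχ⟩ := h
  exact ⟨χ, hχ⟩

/-- The second configuration. -/
theorem t2pre (hGIM : GIM.{u}) {G : Type u} [Group G] [Finite G] (M : Subgroup G) [hM : M.Normal] {p : ℕ}
    (hp : p.Prime) (hmin : MinN M) (hrho : Rho p G) (hnrho : ¬ Rho p (G ⧸ M)) (hMp : IsPGroup p M) :
    ∃ P H : Subgroup G, T2pre G M P H p := by
  have : Fact p.Prime := ⟨hp⟩
  have hIM := hGIM (G ⧸ M) p (not_IM hnrho)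
  obtain ⟨P⟩ : Nonempty (Sylow p G) := inferInstance
  obtain ⟨h1, h2⟩ := hIM (P.mapSurjective (QuotientGroup.mk'_surjective M))
  rw [Sylow.coe_mapSurjective] at h1 h2
  have hMP : M ≤ P := hMp.le_sylow_of_normal P
  have hP : (P : Subgroup G).Normal := by
    have e1 : ((P : Subgroup G).map (QuotientGroup.mk' M)).comap (QuotientGroup.mk' M) = P := by
      rw [Subgroup.comap_map_eq, QuotientGroup.ker_mk']
      exact sup_eq_left.2 hMP
    rw [← e1]
    exact h1.comap _
  have hPi : ¬ p ∣ (P : Subgroup G).index := P.not_dvd_index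
  -- `[P, P] ≤ M`
  have hc1 : ⁅(P : Subgroup G), (P : Subgroup G)⁆ ≤ M := by
    rw [Subgroup.commutator_le]
    intro a ha b hb
    rw [← QuotientGroup.eq_one_iff, commutatorElement_def]
    have e1 := h2 _ (Subgroup.mem_map_of_mem _ ha) _ (Subgroup.mem_map_of_mem _ hb)
    have e2 : (a : G ⧸ M) * (b : G ⧸ M) = (b : G ⧸ M) * (a : G ⧸ M) := e1
    rw [QuotientGroup.mk_mul, QuotientGroup.mk_mul, QuotientGroup.mk_mul, e2, QuotientGroup.mk_inv,
      QuotientGroup.mk_inv]
    group
  have hc : ⁅(P : Subgroup G), (P : Subgroup G)⁆ = M := by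
    rcases hmin.min _ inferInstance hc1 with e1 | e1
    · exfalso
      refine rho_abelian hrho (P : Subgroup G) (fun a ha b hb => ?_) hPi
      have e2 : ⁅a, b⁆ ∈ (⊥ : Subgroup G) := by
        rw [← e1]
        exact Subgroup.commutator_mem_commutator ha hb
      rw [Subgroup.mem_bot, commutatorElement_eq_one_iff_mul_comm] at e2
      exact e2
    · exact e1
  -- `M ≤ Z(P)`
  have hcen : ∀ m ∈ M, ∀ x ∈ (P : Subgroup G), m * x = x * m := by
    let C : Subgroup G := M ⊓ Subgroup.centralizer ((P : Subgroup G) : Set G)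
    have hC : C.Normal := inferInstance
    rcases hmin.min C hC inf_le_left with e1 | e1
    · exfalso
      -- the centre of `P` meets `M`
      have hPp : IsPGroup p (P : Subgroup G) := P.isPGroup'
      have hne : M.subgroupOf (P : Subgroup G) ≠ ⊥ := by
        rw [ne_eq, Subgroup.subgroupOf_eq_bot, disjoint_iff, inf_eq_left.2 hMP]
        exact hmin.ne
      have hnil : Group.IsNilpotent (P : Subgroup G) := hPp.isNilpotent
      have e2 := Lib.NormalAbelian.normal_inf_center_ne_bot (M.subgroupOf (P : Subgroup G)) hne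
      apply e2
      rw [eq_bot_iff]
      intro x hx
      obtain ⟨hx1, hx2⟩ := Subgroup.mem_inf.1 hx
      have e3 : (x : G) ∈ C := by
        refine Subgroup.mem_inf.2 ⟨hx1, Subgroup.mem_centralizer_iff.2 fun y hy => ?_⟩
        exact congrArg Subtype.val ((Subgroup.mem_center_iff.1 hx2) ⟨y, hy⟩)
      rw [e1, Subgroup.mem_bot] at e3
      rw [Subgroup.mem_bot]
      exact Subtype.ext e3
    · intro m hm x hx
      have : m ∈ C := by rw [e1]; exact hm
      exact ((Subgroup.mem_centralizer_iff.1 this.2) x hx).symm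
  have hcop : Nat.Coprime (Nat.card (P : Subgroup G)) (P : Subgroup G).index := by
    obtain ⟨k, hk⟩ := (IsPGroup.iff_card).1 P.isPGroup'
    rw [hk]
    exact Nat.Coprime.pow_left k ((Nat.Prime.coprime_iff_not_dvd hp).2 hPi)
  obtain ⟨H, hH⟩ := Subgroup.exists_right_complement'_of_coprime hcop
  refine ⟨P, H, hp, hmin, hP, P.isPGroup', hH, hc, hcen, ?_⟩
  rw [← hH.symm.index_eq_card]
  exact hPi

/-- The first configuration. -/
theorem t1 (hGIM : GIM.{u}) {G : Type u} [Group G] [Finite G] (M : Subgroup G) [hM : M.Normal] {p : ℕ}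
    (hp : p.Prime) (hmin : MinN M) (hab : ∀ a ∈ M, ∀ b ∈ M, a * b = b * a) (hrho : Rho p G)
    (hnrho : ¬ Rho p (G ⧸ M)) (hMp : ¬ IsPGroup p M) : ∃ H : Subgroup G, T1 G M H p := by
  have : Fact p.Prime := ⟨hp⟩
  obtain ⟨l, hl, hMl, -⟩ := Lib.MinNormalNonabelian.abelian_structure M hmin.ne hmin.min hab
  have hlp : l ≠ p := fun h => hMp (h ▸ hMl)
  have : Fact l.Prime := ⟨hl⟩
  -- `G / M` has a normal abelian Sylow `p`-subgroup
  have hIM := hGIM (G ⧸ M) p (not_IM hnrho)
  obtain ⟨P⟩ : Nonempty (Sylow p G) := inferInstance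
  obtain ⟨h1, h2⟩ := hIM (P.mapSurjective (QuotientGroup.mk'_surjective M))
  rw [Sylow.coe_mapSurjective] at h1 h2
  have hPM : ((P : Subgroup G) ⊔ M).Normal := by
    have e1 : ((P : Subgroup G).map (QuotientGroup.mk' M)).comap (QuotientGroup.mk' M) = (P : Subgroup G) ⊔ M := by
      rw [Subgroup.comap_map_eq, QuotientGroup.ker_mk']
    rw [← e1]
    exact h1.comap _
  have hPi : ¬ p ∣ (P : Subgroup G).index := P.not_dvd_index
  have hPMd : (P : Subgroup G) ⊓ M = ⊥ := by
    obtain ⟨a, ha⟩ := (IsPGroup.iff_card).1 P.isPGroup'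
    obtain ⟨b, hb⟩ := (IsPGroup.iff_card).1 hMl
    have e1 : (Nat.card (P : Subgroup G)).Coprime (Nat.card M) := by
      rw [ha, hb]
      exact Nat.Coprime.pow _ _ ((Nat.coprime_primes hp hl).2 hlp.symm)
    exact (Subgroup.disjoint_of_coprime_natCard e1).eq_bot
  have hPab : ∀ a ∈ (P : Subgroup G), ∀ b ∈ (P : Subgroup G), a * b = b * a := by
    intro a ha b hb
    have e1 : ⁅a, b⁆ ∈ (P : Subgroup G) ⊓ M := by
      refine Subgroup.mem_inf.2 ⟨?_, ?_⟩
      · rw [commutatorElement_def]
        exact mul_mem (mul_mem (mul_mem ha hb) (inv_mem ha)) (inv_mem hb)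
      · rw [← QuotientGroup.eq_one_iff, commutatorElement_def]
        have e1 := h2 _ (Subgroup.mem_map_of_mem _ ha) _ (Subgroup.mem_map_of_mem _ hb)
        have e2 : (a : G ⧸ M) * (b : G ⧸ M) = (b : G ⧸ M) * (a : G ⧸ M) := e1
        rw [QuotientGroup.mk_mul, QuotientGroup.mk_mul, QuotientGroup.mk_mul, e2, QuotientGroup.mk_inv,
          QuotientGroup.mk_inv]
        group
    rw [hPMd, Subgroup.mem_bot, commutatorElement_eq_one_iff_mul_comm] at e1
    exact e1
  have hPn : ¬ (P : Subgroup G).Normal := fun h => rho_abelian hrho (P : Subgroup G) hPab hPi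
  -- the complement
  let H : Subgroup G := Subgroup.normalizer ((P : Subgroup G) : Set G)
  have hHM : M ⊔ H = ⊤ := by
    have e1 := P.normalizer_sup_eq_top' (N := (P : Subgroup G) ⊔ M) le_sup_left
    rw [eq_top_iff, ← e1]
    refine sup_le le_sup_right (sup_le ?_ le_sup_left)
    exact Subgroup.le_normalizer.trans le_sup_right
  have hMH : ¬ M ≤ H := by
    intro h
    apply hPn
    have e1 : H = ⊤ := by
      rw [← hHM, sup_eq_right.2 h]
    exact Subgroup.normalizer_eq_top_iff.1 e1
  have hdisj : M ⊓ H = ⊥ := by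
    have hn : (M ⊓ H).Normal := by
      rw [← Subgroup.normalizer_eq_top_iff, eq_top_iff, ← hHM]
      refine sup_le ?_ ?_
      · intro a ha
        refine Transfer.FusionBasic.mem_normalizer_of_conj_mem fun x hx => ?_
        have e1 : a * x * a⁻¹ = x := by
          rw [hab a ha x hx.1, mul_inv_cancel_right]
        rw [e1]
        exact hx
      · intro k hk
        refine Transfer.FusionBasic.mem_normalizer_of_conj_mem fun x hx => ?_
        exact Subgroup.mem_inf.2 ⟨hM.conj_mem x hx.1 k, mul_mem (mul_mem hk hx.2) (inv_mem hk)⟩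
    rcases hmin.min _ hn inf_le_left with e1 | e1
    · exact e1
    · exact absurd (inf_eq_left.1 e1) hMH
  have hcompl : M.IsComplement' H := by
    refine Subgroup.isComplement'_of_disjoint_and_mul_eq_univ (disjoint_iff.2 hdisj) ?_
    rw [← Subgroup.normal_mul, hHM]
    rfl
  obtain ⟨ρ, hρ1, hρ2, hρ3⟩ := exists_retract hcompl
  -- `[M, P] = M`
  have hcomm : ⁅M, (P : Subgroup G) ⊔ M⁆ = M := by
    rcases hmin.min ⁅M, (P : Subgroup G) ⊔ M⁆ inferInstance (Subgroup.commutator_le_left _ _) with e1 | e1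
    · exfalso
      apply hMH
      intro a ha
      refine Transfer.FusionBasic.mem_normalizer_of_conj_mem fun x hx => ?_
      have e2 : ⁅a, x⁆ ∈ (⊥ : Subgroup G) := by
        rw [← e1]
        exact Subgroup.commutator_mem_commutator ha (Subgroup.mem_sup_left hx)
      rw [Subgroup.mem_bot, commutatorElement_eq_one_iff_mul_comm] at e2
      rw [e2, mul_inv_cancel_right]
      exact hx
    · exact e1
  have hfix : ∀ v : LC M, v ≠ 0 → ¬ ((P : Subgroup G) ⊔ M ≤ MulAction.stabilizer G v) := by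
    intro v hv hle
    apply hv
    apply LC.ext
    intro x
    rw [LC.hom_zero]
    have e1 : M ≤ v.hom.ker.map M.subtype := by
      conv_lhs => rw [← hcomm]
      rw [Subgroup.commutator_le]
      intro a ha b hb
      have e2 : ⁅a, b⁆ ∈ M := by
        rw [← hcomm]
        exact Subgroup.commutator_mem_commutator ha hb
      refine ⟨⟨⁅a, b⁆, e2⟩, ?_, rfl⟩
      show v.hom _ = 1
      have hbv : b⁻¹ • v = v := MulAction.mem_stabilizer_iff.1 (inv_mem (hle hb))
      have e3 := LC.smul_hom M b⁻¹ v (⟨a, ha⟩⁻¹)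
      rw [hbv] at e3
      have e4 : (⟨⁅a, b⁆, e2⟩ : M) = ⟨a, ha⟩ * ⟨b⁻¹⁻¹ * ((⟨a, ha⟩⁻¹ : M) : G) * b⁻¹, by
          rw [inv_inv]
          exact hM.conj_mem _ (⟨a, ha⟩⁻¹ : M).2 b⟩ := by
        apply Subtype.ext
        show ⁅a, b⁆ = a * (b⁻¹⁻¹ * a⁻¹ * b⁻¹)
        rw [commutatorElement_def]
        group
      rw [e4, map_mul, ← e3, map_inv, mul_inv_cancel]
    obtain ⟨y, hy, hyx⟩ := e1 x.2
    have e2 : y = x := Subtype.ext hyx
    rw [← e2]
    exact hy
  have hidx : ∀ v : LC M, v ≠ 0 → p ∣ (MulAction.stabilizer H v).index := by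
    intro v hv
    by_contra hcon
    apply hfix v hv
    set S : Subgroup G := MulAction.stabilizer G v with hS
    have hSi : S.index = (MulAction.stabilizer H v).index := by
      rw [← Subgroup.index_comap_of_surjective _ hρ3]
      congr 1
      ext g
      rw [hS, Subgroup.mem_comap, MulAction.mem_stabilizer_iff, MulAction.mem_stabilizer_iff,
        smul_retract hρ1 hρ2]
    have hMS : M ≤ S := fun a ha => MulAction.mem_stabilizer_iff.2 (smul_of_mem ha v)
    rw [← hSi] at hcon
    -- a Sylow subgroup in `S`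
    obtain ⟨Q₀⟩ : Nonempty (Sylow p S) := inferInstance
    have hQp : IsPGroup p ((Q₀ : Subgroup S).map S.subtype) := Q₀.isPGroup'.map _
    have hQi : ¬ p ∣ ((Q₀ : Subgroup S).map S.subtype).index := by
      rw [Subgroup.index_map_subtype]
      intro h
      rcases (Nat.Prime.dvd_mul hp).1 h with h | h
      · exact Q₀.not_dvd_index h
      · exact hcon h
    obtain ⟨g, hg⟩ := MulAction.exists_smul_eq G P (hQp.toSylow hQi)
    have hg' : (P : Subgroup G).map (MulAut.conj g).toMonoidHom = (Q₀ : Subgroup S).map S.subtype := by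
      have e1 := congrArg (fun R : Sylow p G => (R : Subgroup G)) hg
      simp only [IsPGroup.toSylow_coe] at e1
      rw [← e1]
      rfl
    have hmapn : ∀ A : Subgroup G, A.Normal → A.map (MulAut.conj g).toMonoidHom = A := by
      intro A hA
      apply le_antisymm
      · rintro _ ⟨x, hx, rfl⟩
        exact hA.conj_mem x hx g
      · intro x hx
        refine ⟨g⁻¹ * x * g, ?_, ?_⟩
        · have := hA.conj_mem x hx g⁻¹
          rwa [inv_inv] at this
        · show g * (g⁻¹ * x * g) * g⁻¹ = x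
          group
    have e1 := hmapn _ hPM
    have e2 := hmapn _ hM
    rw [← e1, Subgroup.map_sup, hg', e2]
    refine sup_le ?_ hMS
    rintro _ ⟨x, -, rfl⟩
    exact x.2
  obtain ⟨n, hn⟩ := (IsPGroup.iff_card).1 hMl
  refine ⟨H, hcompl, irr_of_minN M hmin hab hHM, ⟨l, n, hl, hlp, ?_, ?_⟩, charDegrees_compl hcompl, ?_, ?_⟩
  · rcases Nat.eq_zero_or_pos n with h0 | h0
    · exfalso
      rw [h0, pow_zero] at hn
      exact hmin.ne (Subgroup.card_eq_one.1 hn)
    · exact h0
  · rw [card_LC M hab, hn]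
  · intro v hv d hd
    exact ⟨_, index_mul_mem hcompl v hd, dvd_rfl, (hidx v hv).mul_right d⟩
  · intro z hz hzr Z hZn hZab hZt
    have : Fact z.Prime := ⟨hz⟩
    have hA : ((Z : Subgroup H).comap ρ).Normal := hZn.comap ρ
    refine rho_abelian hzr ((Z : Subgroup H).comap ρ) ?_ ?_
    · have key : ∀ k ∈ (Z : Subgroup H), ∀ a ∈ M, (k : G) * a = a * k := fun k hk a ha =>
        comm_of_triv M hab (fun v => hZt k hk v) ha
      have hdec : ∀ g : G, ∃ a ∈ M, g = a * ((ρ g : H) : G) := by
        intro g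
        refine ⟨g * ((ρ g : H) : G)⁻¹, ?_, by group⟩
        rw [← hρ1, map_mul, map_inv, hρ2, mul_inv_cancel]
      intro x hx y hy
      obtain ⟨a, ha, ea⟩ := hdec x
      obtain ⟨b, hb, eb⟩ := hdec y
      have h3 : ((ρ x : H) : G) * ((ρ y : H) : G) = ((ρ y : H) : G) * ((ρ x : H) : G) :=
        congrArg Subtype.val (hZab _ hx _ hy)
      have h4 := key _ hx b hb
      have h5 := key _ hy a ha
      rw [ea, eb]
      clear ea eb
      generalize ((ρ x : H) : G) = k at *
      generalize ((ρ y : H) : G) = k' at *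
      calc a * k * (b * k') = a * (k * b) * k' := by group
        _ = (a * b) * (k * k') := by rw [h4]; group
        _ = (b * a) * (k' * k) := by rw [hab a ha b hb, h3]
        _ = b * (a * k') * k := by group
        _ = b * k' * (a * k) := by rw [← h5]; group
    · rw [Subgroup.index_comap_of_surjective _ hρ3]
      exact Z.not_dvd_index

end

end Cfsg.Agent.H672.Four
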